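import Cfsg.Agent.H62.CyclicFix.Local

/-!
# 2-groups with a cyclic-by-four subgroup of index at most two

The fusion endgames: none of these 2-groups is a Sylow subgroup of a perfect group.
-/

set_option autoImplicit false
set_option linter.unusedVariables false
set_option linter.unusedSectionVars false
set_option linter.style.haveILetI false

namespace Cfsg.Agent.H62.CyclicFix

open Subgroup
open scoped commutatorElement

variable {G : Type*} [Group G] [Finite G]

/-- The relations: `S = (⟨r⟩ × ⟨u⟩)⟨x⟩`, `x` inverting `r` up to the central involution `d`. -/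
structure Data (S : Sylow 2 G) where
  r : G
  u : G
  d : G
  x : G
  δ : G
  η : G
  k : ℤ
  r_mem : r ∈ (S : Subgroup G)
  u_mem : u ∈ (S : Subgroup G)
  x_mem : x ∈ (S : Subgroup G)
  d_central : ∀ z ∈ (S : Subgroup G), z * d = d * z
  d_ne : d ≠ 1
  d_sq : d * d = 1
  k_sq : r ^ k * r ^ k = d
  u_sq : u * u = 1
  u_ne : u ≠ 1
  u_ne_d : u ≠ d
  r_u : Commute r u
  δ_cases : δ = 1 ∨ δ = d
  η_cases : η = 1 ∨ η = d
  x_r : x⁻¹ * r * x = r⁻¹ * δ
  x_u : x⁻¹ * u * x = u * η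
  cover : ∀ z ∈ (S : Subgroup G), ∃ j : ℤ,
    z = r ^ j ∨ z = r ^ j * u ∨ z = x * r ^ j ∨ z = x * (r ^ j * u)
  x_out : ∀ j : ℤ, x ≠ r ^ j ∧ x ≠ r ^ j * u
  x_sq : ∃ i : ℤ, x * x = r ^ i ∨ x * x = r ^ i * u

namespace Data

variable {S : Sylow 2 G} (D : Data S)

theorem d_mem : D.d ∈ (S : Subgroup G) := D.k_sq ▸ mul_mem (zpow_mem D.r_mem _) (zpow_mem D.r_mem _)

theorem d_eq : D.r ^ (D.k + D.k) = D.d := by rw [zpow_add]; exact D.k_sq

theorem d_zpow : D.d ∈ zpowers D.r := D.d_eq ▸ zpow_mem (mem_zpowers _) _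

theorem d_inv : D.d⁻¹ = D.d := inv_eq_of_mul_eq_one_right D.d_sq

theorem u_inv : D.u⁻¹ = D.u := inv_eq_of_mul_eq_one_right D.u_sq

theorem r_d : Commute D.r D.d := D.d_central _ D.r_mem

theorem u_d : Commute D.u D.d := D.d_central _ D.u_mem

theorem x_d : Commute D.x D.d := D.d_central _ D.x_mem

theorem inv_cases {i : ℤ} (h : D.r ^ i * D.r ^ i = 1) : D.r ^ i = 1 ∨ D.r ^ i = D.d :=
  zpow_eq_of_square_eq_one D.d_ne D.d_sq D.d_eq h

theorem u_notMem (i : ℤ) : D.r ^ i ≠ D.u := fun h => by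
  rcases D.inv_cases (show D.r ^ i * D.r ^ i = 1 by rw [h, D.u_sq]) with h' | h'
  · exact D.u_ne (h ▸ h')
  · exact D.u_ne_d (h ▸ h')

theorem delta_pow (i : ℤ) : D.δ ^ i = 1 ∨ D.δ ^ i = D.d := by
  rcases D.δ_cases with h | h <;> rw [h]
  · exact Or.inl (one_zpow i)
  · obtain ⟨m, rfl⟩ | ⟨m, rfl⟩ := Int.even_or_odd i
    · left; rw [zpow_add, ← (Commute.refl D.d).mul_zpow, D.d_sq, one_zpow]
    · right; rw [zpow_add, zpow_one, zpow_mul, zpow_two, D.d_sq, one_zpow, one_mul]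

theorem x_rpow (i : ℤ) : D.x⁻¹ * D.r ^ i * D.x = D.r ^ (-i) * D.δ ^ i := by
  have h : Commute D.r⁻¹ D.δ := by
    rcases D.δ_cases with h | h <;> rw [h]
    exacts [Commute.one_right _, D.r_d.inv_left]
  calc D.x⁻¹ * D.r ^ i * D.x = (D.x⁻¹ * D.r * D.x) ^ i := by
        conv_rhs => rw [show D.x⁻¹ * D.r * D.x = D.x⁻¹ * D.r * (D.x⁻¹)⁻¹ by rw [inv_inv], conj_zpow,
          inv_inv]
    _ = D.r ^ (-i) * D.δ ^ i := by rw [D.x_r, h.mul_zpow, inv_zpow, zpow_neg]

theorem delta_mem : D.δ ∈ zpowers D.r := by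
  rcases D.δ_cases with h | h <;> rw [h]
  exacts [one_mem _, D.d_zpow]

theorem r_rpow_u (i : ℤ) : Commute (D.r ^ i) D.u := D.r_u.zpow_left i

theorem sq_ru (i : ℤ) : D.r ^ i * D.u * (D.r ^ i * D.u) = D.r ^ i * D.r ^ i := by
  rw [(D.r_rpow_u i).symm.mul_mul_mul_comm, D.u_sq, mul_one]

theorem sq_xr (i : ℤ) : D.x * D.r ^ i * (D.x * D.r ^ i) = D.x * D.x * D.δ ^ i := by
  have h : Commute (D.δ ^ i) (D.r ^ i) := by
    rcases D.delta_pow i with h | h <;> rw [h]
    exacts [Commute.one_left _, D.r_d.symm.zpow_right i]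
  calc D.x * D.r ^ i * (D.x * D.r ^ i) = D.x * D.x * (D.x⁻¹ * D.r ^ i * D.x * D.r ^ i) := by group
    _ = D.x * D.x * D.δ ^ i := by rw [D.x_rpow, mul_assoc (D.r ^ (-i)), h.eq]; group

theorem sq_xru (i : ℤ) :
    D.x * (D.r ^ i * D.u) * (D.x * (D.r ^ i * D.u)) = D.x * D.x * D.δ ^ i * D.η := by
  have hd : Commute (D.δ ^ i) (D.r ^ i) := by
    rcases D.delta_pow i with h | h <;> rw [h]
    exacts [Commute.one_left _, D.r_d.symm.zpow_right i]
  have he : Commute D.η (D.r ^ i * D.u) := by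
    rcases D.η_cases with h | h <;> rw [h]
    exacts [Commute.one_left _, (D.r_d.symm.zpow_right i).mul_right D.u_d.symm]
  calc D.x * (D.r ^ i * D.u) * (D.x * (D.r ^ i * D.u))
      = D.x * D.x * ((D.x⁻¹ * D.r ^ i * D.x) * (D.x⁻¹ * D.u * D.x) * (D.r ^ i * D.u)) := by group
    _ = D.x * D.x * (D.r ^ (-i) * (D.δ ^ i * D.u) * (D.η * (D.r ^ i * D.u))) := by
        rw [D.x_rpow, D.x_u]; group
    _ = D.x * D.x * (D.r ^ (-i) * D.δ ^ i * (D.u * (D.r ^ i * D.u)) * D.η) := by
        rw [he.eq]; group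
    _ = D.x * D.x * (D.r ^ (-i) * (D.δ ^ i * D.r ^ i) * D.η) := by
        rw [show D.u * (D.r ^ i * D.u) = D.r ^ i by
          rw [(D.r_rpow_u i).eq, ← mul_assoc, D.u_sq, one_mul], mul_assoc (D.r ^ (-i))]
    _ = D.x * D.x * D.δ ^ i * D.η := by rw [hd.eq]; group

/-- A cyclic subgroup of order four inside `⟨r⟩` is normal. -/
theorem norm_four {i : ℤ} (h : D.r ^ i * D.r ^ i = D.d) :
    ∀ z ∈ (S : Subgroup G), z * D.r ^ i * z⁻¹ ∈ zpowers (D.r ^ i) := by
  set a := D.r ^ i with ha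
  have hd : D.d ∈ zpowers a := h ▸ mul_mem (mem_zpowers a) (mem_zpowers a)
  have hx' : ∀ e : G, D.x⁻¹ * a * D.x = e → e ∈ zpowers a → D.x * a * D.x⁻¹ ∈ zpowers a := by
    intro e he hmem
    obtain ⟨l, hl⟩ := hmem
    have hxx : D.x * D.x * a * (D.x * D.x)⁻¹ = a := by
      obtain ⟨j, h' | h'⟩ := D.x_sq <;> rw [h', ha]
      · rw [← zpow_add, add_comm, zpow_add, mul_inv_cancel_right]
      · have hc : Commute (D.r ^ j * D.u) (D.r ^ i) :=
          ((Commute.refl D.r).zpow_zpow j i).mul_left (D.r_rpow_u i).symm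
        rw [hc.eq, mul_inv_cancel_right]
    refine ⟨l, ?_⟩
    show a ^ l = _
    rw [show a ^ l = e from hl, ← he]
    conv_lhs => rw [← hxx]
    group
  have hx : D.x * a * D.x⁻¹ ∈ zpowers a := by
    refine hx' _ (D.x_rpow i) (mul_mem ?_ ?_)
    · rw [zpow_neg]; exact inv_mem (mem_zpowers a)
    · rcases D.delta_pow i with h' | h' <;> rw [h']
      exacts [one_mem _, hd]
  intro z hz
  have hr : ∀ j : ℤ, D.r ^ j * a * (D.r ^ j)⁻¹ = a := fun j => by
    rw [ha, ← zpow_add, add_comm, zpow_add, mul_inv_cancel_right]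
  have hru : ∀ j : ℤ, D.r ^ j * D.u * a * (D.r ^ j * D.u)⁻¹ = a := fun j => by
    rw [(((Commute.refl D.r).zpow_zpow j i).mul_left (D.r_rpow_u i).symm).eq, mul_inv_cancel_right]
  obtain ⟨j, rfl | rfl | rfl | rfl⟩ := D.cover z hz
  · rw [hr]; exact mem_zpowers a
  · rw [hru]; exact mem_zpowers a
  · rw [show D.x * D.r ^ j * a * (D.x * D.r ^ j)⁻¹ = D.x * (D.r ^ j * a * (D.r ^ j)⁻¹) * D.x⁻¹ by
      group, hr]
    exact hx
  · rw [show D.x * (D.r ^ j * D.u) * a * (D.x * (D.r ^ j * D.u))⁻¹ =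
      D.x * (D.r ^ j * D.u * a * (D.r ^ j * D.u)⁻¹) * D.x⁻¹ by group, hru]
    exact hx

/-- An element of order four of `⟨r⟩` is moved by `x` unless `δ` acts. -/
theorem not_central {i : ℤ} (h : D.r ^ i * D.r ^ i = D.d) (hδ : D.δ ^ i = 1)
    (hc : D.x * D.r ^ i = D.r ^ i * D.x) : False := by
  have h1 := D.x_rpow i
  rw [hδ, mul_one, mul_assoc, ← hc, ← mul_assoc, inv_mul_cancel, one_mul, zpow_neg] at h1
  apply D.d_ne
  rw [← h]
  conv_lhs => arg 1; rw [h1]
  exact inv_mul_cancel _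

/-- `⟨r⟩ × ⟨u⟩` -/
def R : Subgroup G where
  carrier := {z | ∃ j : ℤ, z = D.r ^ j ∨ z = D.r ^ j * D.u}
  one_mem' := ⟨0, Or.inl (zpow_zero _).symm⟩
  mul_mem' := by
    rintro a b ⟨i, rfl | rfl⟩ ⟨j, rfl | rfl⟩
    · exact ⟨i + j, Or.inl (zpow_add _ _ _).symm⟩
    · exact ⟨i + j, Or.inr (by rw [zpow_add, mul_assoc])⟩
    · exact ⟨i + j, Or.inr (by rw [zpow_add, mul_assoc, ← (D.r_rpow_u j).eq, mul_assoc])⟩
    · refine ⟨i + j, Or.inl ?_⟩
      calc D.r ^ i * D.u * (D.r ^ j * D.u) = D.r ^ i * D.r ^ j * (D.u * D.u) := by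
            rw [(D.r_rpow_u j).symm.mul_mul_mul_comm]
        _ = D.r ^ (i + j) := by rw [D.u_sq, mul_one, zpow_add]
  inv_mem' := by
    rintro a ⟨i, rfl | rfl⟩
    · exact ⟨-i, Or.inl (zpow_neg _ _).symm⟩
    · exact ⟨-i, Or.inr (by rw [mul_inv_rev, D.u_inv, ← zpow_neg, (D.r_rpow_u _).eq])⟩

theorem mem_R {z : G} : z ∈ D.R ↔ ∃ j : ℤ, z = D.r ^ j ∨ z = D.r ^ j * D.u := Iff.rfl

theorem R_le : D.R ≤ (S : Subgroup G) := by
  rintro z ⟨j, rfl | rfl⟩
  exacts [zpow_mem D.r_mem _, mul_mem (zpow_mem D.r_mem _) D.u_mem]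

theorem x_notMem_R : D.x ∉ D.R := fun ⟨j, h⟩ => h.elim (D.x_out j).1 (D.x_out j).2

theorem R_cover : ∀ z ∈ (S : Subgroup G), z ∈ D.R ∨ D.x⁻¹ * z ∈ D.R := by
  intro z hz
  obtain ⟨j, rfl | rfl | rfl | rfl⟩ := D.cover z hz
  exacts [Or.inl ⟨j, Or.inl rfl⟩, Or.inl ⟨j, Or.inr rfl⟩,
    Or.inr ⟨j, Or.inl (inv_mul_cancel_left _ _)⟩, Or.inr ⟨j, Or.inr (inv_mul_cancel_left _ _)⟩]

/-- `⟨r, x⟩`, when `x² ∈ ⟨r⟩`. -/
def M (hq : D.x * D.x ∈ zpowers D.r) : Subgroup G where
  carrier := {z | z ∈ zpowers D.r ∨ D.x⁻¹ * z ∈ zpowers D.r}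
  one_mem' := Or.inl (one_mem _)
  mul_mem' := by
    have hconj : ∀ z ∈ zpowers D.r, D.x⁻¹ * z * D.x ∈ zpowers D.r := by
      rintro z ⟨j, rfl⟩
      show D.x⁻¹ * D.r ^ j * D.x ∈ _
      rw [D.x_rpow]
      exact mul_mem (zpow_mem (mem_zpowers _) _) (zpow_mem D.delta_mem _)
    have hx : ∀ z, z ∈ zpowers D.r → D.x * z * D.x⁻¹ ∈ zpowers D.r := fun z hz => by
      have := mul_mem (mul_mem hq (hconj z hz)) (inv_mem hq)
      simpa [mul_assoc] using this
    intro a b ha hb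
    rcases ha with ha | ha <;> rcases hb with hb | hb
    · exact Or.inl (mul_mem ha hb)
    · refine Or.inr ?_
      have := mul_mem (hconj a ha) hb
      simpa [mul_assoc] using this
    · refine Or.inr ?_
      have := mul_mem ha hb
      simpa [mul_assoc] using this
    · refine Or.inl ?_
      have := mul_mem (mul_mem (hx _ ha) hq) hb
      simpa [mul_assoc] using this
  inv_mem' := by
    intro a ha
    rcases ha with ha | ha
    · exact Or.inl (inv_mem ha)
    · refine Or.inr ?_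
      obtain ⟨j, hj⟩ := ha
      have hj' : D.r ^ j = D.x⁻¹ * a := hj
      have : D.x⁻¹ * a⁻¹ = (D.x⁻¹ * D.r ^ (-j) * D.x) * (D.x * D.x)⁻¹ := by
        rw [zpow_neg, hj']; group
      rw [this, D.x_rpow]
      exact mul_mem (mul_mem (zpow_mem (mem_zpowers _) _) (zpow_mem D.delta_mem _)) (inv_mem hq)

theorem mem_M {hq : D.x * D.x ∈ zpowers D.r} {z : G} :
    z ∈ D.M hq ↔ ∃ j : ℤ, z = D.r ^ j ∨ z = D.x * D.r ^ j := by
  constructor
  · rintro (⟨j, hj⟩ | ⟨j, hj⟩)
    · exact ⟨j, Or.inl hj.symm⟩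
    · exact ⟨j, Or.inr (by rw [show D.r ^ j = D.x⁻¹ * z from hj, mul_inv_cancel_left])⟩
  · rintro ⟨j, rfl | rfl⟩
    exacts [Or.inl (zpow_mem (mem_zpowers _) _),
      Or.inr (by rw [inv_mul_cancel_left]; exact zpow_mem (mem_zpowers _) _)]

theorem M_le (hq : D.x * D.x ∈ zpowers D.r) : D.M hq ≤ (S : Subgroup G) := fun z hz => by
  obtain ⟨j, rfl | rfl⟩ := D.mem_M.1 hz
  exacts [zpow_mem D.r_mem _, mul_mem D.x_mem (zpow_mem D.r_mem _)]

theorem d_mem_M (hq : D.x * D.x ∈ zpowers D.r) : D.d ∈ D.M hq := Or.inl D.d_zpow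

theorem u_notMem_M (hq : D.x * D.x ∈ zpowers D.r) : D.u ∉ D.M hq := fun h => by
  obtain ⟨j, h' | h'⟩ := D.mem_M.1 h
  · exact D.u_notMem j h'.symm
  · exact (D.x_out (-j)).2 (by rw [(D.r_rpow_u (-j)).eq, h', zpow_neg, mul_inv_cancel_right])

theorem M_cover (hq : D.x * D.x ∈ zpowers D.r) :
    ∀ z ∈ (S : Subgroup G), z ∈ D.M hq ∨ D.u⁻¹ * z ∈ D.M hq := by
  intro z hz
  obtain ⟨j, rfl | rfl | rfl | rfl⟩ := D.cover z hz
  · exact Or.inl (D.mem_M.2 ⟨j, Or.inl rfl⟩)
  · exact Or.inr (D.mem_M.2 ⟨j, Or.inl (by rw [(D.r_rpow_u j).eq, inv_mul_cancel_left])⟩)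
  · exact Or.inl (D.mem_M.2 ⟨j, Or.inr rfl⟩)
  · right
    have hu : D.u * D.x = D.x * (D.u * D.η) := by rw [← D.x_u]; group
    rw [D.u_inv, ← mul_assoc, hu]
    rcases D.η_cases with he | he <;> rw [he]
    · exact D.mem_M.2 ⟨j, Or.inr (by
        rw [mul_one, mul_assoc, (D.r_rpow_u j).eq, ← mul_assoc D.u, D.u_sq, one_mul])⟩
    · obtain ⟨i, hi⟩ := D.d_zpow
      refine D.mem_M.2 ⟨i + j, Or.inr ?_⟩
      rw [zpow_add, show D.r ^ i = D.d from hi, D.u_d.eq, mul_assoc, mul_assoc D.d,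
        (D.r_rpow_u j).eq, ← mul_assoc D.u, D.u_sq, one_mul]

/-- The case that `x` has order eight. -/
theorem false_of_order_eight (D : Data S) (hG : ∀ H : Subgroup G, H.index ≠ 2)
    (hq : D.x * D.x * (D.x * D.x) = D.d) : False := by
  set q := D.x * D.x with hqdef
  have hqR : q ∈ D.R := D.x_sq
  have hqS : q ∈ (S : Subgroup G) := mul_mem D.x_mem D.x_mem
  have hxq : Commute D.x q := (Commute.refl _).mul_right (Commute.refl _)
  have hcent : ∀ z ∈ (S : Subgroup G), z * q = q * z := by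
    have hR : ∀ z ∈ D.R, Commute z q := by
      rintro z ⟨j, rfl | rfl⟩ <;> obtain ⟨i, h' | h'⟩ := hqR <;> rw [h']
      · exact (Commute.refl D.r).zpow_zpow j i
      · exact ((Commute.refl D.r).zpow_zpow j i).mul_right (D.r_rpow_u j)
      · exact ((Commute.refl D.r).zpow_zpow j i).mul_left (D.r_rpow_u i).symm
      · exact (((Commute.refl D.r).zpow_zpow j i).mul_right (D.r_rpow_u j)).mul_left
          ((D.r_rpow_u i).symm.mul_right (Commute.refl _))
    intro z hz
    rcases D.R_cover z hz with h | h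
    · exact (hR z h).eq
    · simpa using (hxq.mul_left (hR _ h)).eq
  -- outside elements have order eight
  have hout : ∀ z ∈ (S : Subgroup G), z ∉ D.R → z * z * (z * z) = D.d := by
    intro z hz hzR
    have key : ∀ e : G, (e = 1 ∨ e = D.d) → q * e * (q * e) = D.d := by
      rintro e (rfl | rfl)
      · rw [mul_one, hq]
      · rw [(show Commute q D.d from D.d_central q hqS).symm.mul_mul_mul_comm, hq, D.d_sq, mul_one]
    obtain ⟨j, rfl | rfl | rfl | rfl⟩ := D.cover z hz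
    · exact absurd ⟨j, Or.inl rfl⟩ hzR
    · exact absurd ⟨j, Or.inr rfl⟩ hzR
    · rw [D.sq_xr]; exact key _ (D.delta_pow j)
    · rw [D.sq_xru, mul_assoc q]
      refine key _ ?_
      rcases D.delta_pow j with h | h <;> rcases D.η_cases with h' | h' <;> rw [h, h'] <;>
        simp [D.d_sq]
  obtain ⟨g, hg⟩ := transfer hG S D.R D.R_le D.x_mem D.x_notMem_R D.R_cover D.x
    (by
      have : D.x ^ 8 = q * q * (q * q) := by rw [hqdef]; simp only [pow_succ, pow_zero, one_mul, mul_assoc]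
      rw [this, hq, D.d_sq])
    (fun g hg => by
      by_contra hR
      refine D.d_ne ?_
      have h1 := hout _ hg hR
      rw [conj_mul, conj_mul, hq, D.d_sq, mul_one, mul_inv_cancel] at h1
      exact h1.symm)
    (fun g hg => by
      by_contra hR
      refine D.d_ne ?_
      have h1 := hout _ hg hR
      rw [conj_mul, conj_mul, hq, D.d_sq, mul_one, mul_one, mul_inv_cancel] at h1
      exact h1.symm)
  obtain ⟨j, hj⟩ := hg
  have hw : g * q * g⁻¹ = D.r ^ j * D.r ^ j := by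
    rw [hqdef, ← conj_mul]
    rcases hj with hj | hj <;> rw [hj]
    exact D.sq_ru j
  rw [← zpow_add] at hw
  have hqd : g * (q * q) * g⁻¹ = D.r ^ (j + j) * D.r ^ (j + j) := by rw [← conj_mul, hw]
  rw [hq] at hqd
  have hsq : D.r ^ (j + j) * D.r ^ (j + j) = D.d := by
    have h4 : D.r ^ (j + j + (j + j)) * D.r ^ (j + j + (j + j)) = 1 := by
      rw [zpow_add D.r (j + j), ← hqd, conj_mul, D.d_sq, mul_one, mul_inv_cancel]
    rw [← zpow_add]
    refine (D.inv_cases h4).resolve_left fun h => D.d_ne ?_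
    rw [zpow_add, ← hqd, conj_eq_one_iff] at h
    exact h
  refine D.not_central hsq ?_ (central_of_conj S (D.norm_four hsq) hqS hcent (g := g⁻¹) ?_ D.x D.x_mem)
  · rcases D.δ_cases with h | h <;> rw [h]
    · exact one_zpow _
    · rw [zpow_add, ← (Commute.refl D.d).mul_zpow, D.d_sq, one_zpow]
  · rw [← hw]; group

/-- An outside involution, the four-group not central. -/
theorem false_of_involution_moving (D : Data S) (hG : ∀ H : Subgroup G, H.index ≠ 2)
    (hx : D.x * D.x = 1) (hδ : D.δ = 1) (hη : D.η = D.d) : False := by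
  have hq : D.x * D.x ∈ zpowers D.r := hx ▸ one_mem _
  set c := D.r ^ D.k with hc
  have hcc : c * c = D.d := D.k_sq
  set s := c * D.u with hs
  have hss : s * s = D.d := by rw [hs, D.sq_ru, hcc]
  have hsS : s ∈ (S : Subgroup G) := mul_mem (zpow_mem D.r_mem _) D.u_mem
  have hinv : D.r ^ (-D.k) = c * D.d := by
    rw [zpow_neg, inv_eq_iff_mul_eq_one, ← hc, ← mul_assoc, hcc, D.d_sq]
  have hxs : Commute D.x s := by
    have h : D.x⁻¹ * s * D.x = s := by
      calc D.x⁻¹ * s * D.x = (D.x⁻¹ * c * D.x) * (D.x⁻¹ * D.u * D.x) := by rw [hs]; group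
        _ = c * D.d * (D.u * D.d) := by rw [hc, D.x_rpow, hδ, one_zpow, mul_one, D.x_u, hη, hinv]
        _ = s := by
          rw [mul_assoc, ← mul_assoc D.d, ← D.u_d.eq, mul_assoc D.u, D.d_sq, mul_one, hs]
    show D.x * s = s * D.x
    conv_lhs => rw [← h]
    group
  have hR : ∀ z ∈ D.R, Commute z s := by
    rintro z ⟨j, rfl | rfl⟩
    · exact ((Commute.refl D.r).zpow_zpow j D.k).mul_right (D.r_rpow_u j)
    · exact (((Commute.refl D.r).zpow_zpow j D.k).mul_right (D.r_rpow_u j)).mul_left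
        ((D.r_rpow_u D.k).symm.mul_right (Commute.refl _))
  have hcent : ∀ z ∈ (S : Subgroup G), z * s = s * z := fun z hz => by
    rcases D.R_cover z hz with h | h
    · exact (hR z h).eq
    · simpa using (hxs.mul_left (hR _ h)).eq
  have hsq : ∀ z ∈ (S : Subgroup G), z * z * (z * z) = 1 → z * z = 1 ∨ z * z = D.d := by
    intro z hz h4
    obtain ⟨j, rfl | rfl | rfl | rfl⟩ := D.cover z hz
    · rw [← zpow_add] at h4 ⊢; exact D.inv_cases h4
    · rw [D.sq_ru, ← zpow_add] at h4 ⊢; exact D.inv_cases h4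
    · left; rw [D.sq_xr, hx, hδ, one_zpow, one_mul]
    · right; rw [D.sq_xru, hx, hδ, one_zpow, one_mul, one_mul, hη]
  have hwc : ∀ z ∈ (S : Subgroup G), ∀ g : G, g * z * g⁻¹ = D.d → z = D.d := fun z hz g hg =>
    eq_of_conj_of_square S D.d_central D.d_ne D.d_sq hsq hsS (hcent z hz).symm hss hg
  have hsM : s ∉ D.M hq := fun h => D.u_notMem_M hq (by
    have := mul_mem (inv_mem (show c ∈ D.M hq from Or.inl (zpow_mem (mem_zpowers _) _))) h
    rwa [hs, inv_mul_cancel_left] at this)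
  obtain ⟨g, hg⟩ := transfer hG S (D.M hq) (D.M_le hq) D.u_mem (D.u_notMem_M hq) (D.M_cover hq) s
    (by
      have : s ^ 8 = s * s * (s * s) * (s * s * (s * s)) := by simp only [pow_succ, pow_zero, one_mul, mul_assoc]
      rw [this, hss, D.d_sq, one_mul])
    (fun g hg => by
      rw [hss] at hg ⊢
      rw [hwc _ hg g⁻¹ (by group)]
      exact D.d_mem_M hq)
    (fun g hg => by
      rw [hss, D.d_sq, mul_one, mul_inv_cancel]
      exact one_mem _)
  obtain ⟨j, hj | hj⟩ := D.mem_M.1 hg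
  · have hjd : D.r ^ j * D.r ^ j = D.d := by
      have h1 : D.r ^ j * D.r ^ j = g * D.d * g⁻¹ := by rw [← hj, conj_mul, hss]
      have h2 : D.r ^ (j + j) * D.r ^ (j + j) = 1 := by
        rw [zpow_add, h1, conj_mul, D.d_sq, mul_one, mul_inv_cancel]
      rw [← zpow_add]
      refine (D.inv_cases h2).resolve_left fun h => D.d_ne ?_
      rw [zpow_add, h1, conj_eq_one_iff] at h
      exact h
    exact D.not_central hjd (by rw [hδ, one_zpow])
      (central_of_conj S (D.norm_four hjd) hsS hcent (g := g⁻¹) (by rw [← hj]; group) D.x D.x_mem)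
  · refine D.d_ne ?_
    have h1 := D.sq_xr j
    rw [← hj, conj_mul, hss, hx, hδ, one_zpow, one_mul, conj_eq_one_iff] at h1
    exact h1

theorem u_central (D : Data S) (hη : D.η = 1) : ∀ z ∈ (S : Subgroup G), z * D.u = D.u * z := by
  have hxu : Commute D.x D.u := by
    have h := D.x_u
    rw [hη, mul_one] at h
    show D.x * D.u = D.u * D.x
    conv_lhs => rw [← h]
    group
  intro z hz
  obtain ⟨j, rfl | rfl | rfl | rfl⟩ := D.cover z hz
  exacts [(D.r_rpow_u j).eq, ((D.r_rpow_u j).mul_left (Commute.refl _)).eq,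
    (hxu.mul_left (D.r_rpow_u j)).eq, (hxu.mul_left ((D.r_rpow_u j).mul_left (Commute.refl _))).eq]

/-- When `d` is fixed by the normaliser it is not conjugate to `u`. -/
theorem u_not_conj_d (D : Data S) (hη : D.η = 1)
    (hfix : ∀ n ∈ normalizer ((S : Subgroup G) : Set G), n * D.d * n⁻¹ = D.d) (g : G)
    (hg : g * D.u * g⁻¹ = D.d) : False := by
  obtain ⟨n, hn, he⟩ := conj_in_normalizer S D.u_mem (D.u_central hη) D.d_central hg
  refine D.u_ne_d ?_
  rw [← hfix n hn] at he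
  exact mul_left_cancel (mul_right_cancel he)

theorem u_not_conj_ud (D : Data S) (hη : D.η = 1)
    (hfix : ∀ n ∈ normalizer ((S : Subgroup G) : Set G), n * D.d * n⁻¹ = D.d) (g : G)
    (hg : g * D.u * g⁻¹ = D.u * D.d) : False := by
  obtain ⟨n, hn, he⟩ := conj_in_normalizer S D.u_mem (D.u_central hη) (fun z hz =>
    ((show Commute z D.u from D.u_central hη z hz).mul_right (D.d_central z hz)).eq) hg
  exact not_swap S (D.u_central hη) D.u_sq D.d_sq D.d_ne D.u_d hn he (hfix n hn)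

theorem sq_cases_of_involution (D : Data S) (hx : D.x * D.x = 1) (hδ : D.δ = 1) (hη : D.η = 1) :
    ∀ z ∈ (S : Subgroup G), z * z * (z * z) = 1 → z * z = 1 ∨ z * z = D.d := by
  intro z hz h4
  obtain ⟨j, rfl | rfl | rfl | rfl⟩ := D.cover z hz
  · rw [← zpow_add] at h4 ⊢; exact D.inv_cases h4
  · rw [D.sq_ru, ← zpow_add] at h4 ⊢; exact D.inv_cases h4
  · left; rw [D.sq_xr, hx, hδ, one_zpow, one_mul]
  · left; rw [D.sq_xru, hx, hδ, one_zpow, one_mul, one_mul, hη]

/-- The outside involution `x` is not fused to `d`. -/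
theorem not_conj_d_of_involution (D : Data S) (hG : ∀ H : Subgroup G, H.index ≠ 2)
    (hx : D.x * D.x = 1) (hδ : D.δ = 1) (hη : D.η = 1)
    (hswap : IsConj D.x D.d → IsConj (D.x * D.r) D.d) : ¬ IsConj D.x D.d := by
  intro hc
  have hq : D.x * D.x ∈ zpowers D.r := hx ▸ one_mem _
  have hfix := fixed_of_square S (zpow_mem D.r_mem D.k) D.k_sq D.d_ne D.d_sq
    (D.sq_cases_of_involution hx hδ hη)
  have hall : ∀ j : ℤ, IsConj (D.x * D.r ^ j) D.d := by
    intro j
    have hxr : ∀ i : ℤ, D.r ^ (-i) * D.x = D.x * D.r ^ i := fun i => by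
      have h := D.x_rpow (-i)
      rw [hδ, one_zpow, mul_one, neg_neg] at h
      rw [← h]; group
    obtain ⟨i, rfl⟩ | ⟨i, rfl⟩ := Int.even_or_odd j
    · refine IsConj.trans (IsConj.symm (isConj_iff.2 ⟨D.r ^ (-i), ?_⟩)) hc
      rw [hxr, zpow_neg, inv_inv, mul_assoc, ← zpow_add]
    · refine IsConj.trans (IsConj.symm (isConj_iff.2 ⟨D.r ^ (-i), ?_⟩)) (hswap hc)
      rw [← mul_assoc, hxr, zpow_neg, inv_inv, zpow_add, zpow_one, zpow_mul, zpow_two]
      simp only [mul_assoc]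
      congr 1
      rw [← pow_two, ← zpow_natCast D.r 2, ← zpow_mul]
      group
  obtain ⟨g, hg⟩ := transfer hG S (D.M hq) (D.M_le hq) D.u_mem (D.u_notMem_M hq) (D.M_cover hq) D.u
    (by rw [show (8 : ℕ) = 2 * 4 from rfl, pow_mul, sq, D.u_sq, one_pow])
    (fun g _ => by rw [D.u_sq, mul_one, mul_inv_cancel]; exact one_mem _)
    (fun g _ => by rw [D.u_sq, mul_one, mul_one, mul_inv_cancel]; exact one_mem _)
  obtain ⟨j, hj | hj⟩ := D.mem_M.1 hg
  · rcases D.inv_cases (show D.r ^ j * D.r ^ j = 1 by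
      rw [← hj, conj_mul, D.u_sq, mul_one, mul_inv_cancel]) with h | h
    · rw [← hj, conj_eq_one_iff] at h
      exact D.u_ne h
    · exact D.u_not_conj_d hη hfix g (hj.trans h)
  · obtain ⟨a, ha⟩ := isConj_iff.1 (hall j)
    exact D.u_not_conj_d hη hfix (a * g) (by rw [← ha, ← hj]; group)

/-- An outside involution, the four-group central, no outside involution fused to `d`. -/
theorem false_of_involution_central (D : Data S) (hG : ∀ H : Subgroup G, H.index ≠ 2)
    (hx : D.x * D.x = 1) (hδ : D.δ = 1) (hη : D.η = 1)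
    (hno : ∀ z ∈ (S : Subgroup G), z ∉ D.R → z * z = 1 → ¬ IsConj z D.d) : False := by
  have hq : D.x * D.x ∈ zpowers D.r := hx ▸ one_mem _
  have hfix := fixed_of_square S (zpow_mem D.r_mem D.k) D.k_sq D.d_ne D.d_sq
    (D.sq_cases_of_involution hx hδ hη)
  -- `d` is weakly closed
  have hwc : ∀ z ∈ (S : Subgroup G), ∀ g : G, g * z * g⁻¹ = D.d → z = D.d := by
    intro z hz g hg
    have hz2 : z * z = 1 := by
      have h : g * (z * z) * g⁻¹ = 1 := by rw [← conj_mul, hg, D.d_sq]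
      exact conj_eq_one_iff.1 h
    by_cases hzR : z ∈ D.R
    · obtain ⟨j, rfl | rfl⟩ := hzR
      · rcases D.inv_cases hz2 with h | h
        · rw [h, mul_one, mul_inv_cancel] at hg
          exact absurd hg.symm D.d_ne
        · exact h
      · rw [D.sq_ru] at hz2
        rcases D.inv_cases hz2 with h | h <;> rw [h] at hg ⊢
        · rw [one_mul] at hg ⊢
          exact absurd hg (fun h => D.u_not_conj_d hη hfix g h)
        · exfalso
          have hudS : ∀ w ∈ (S : Subgroup G), w * (D.d * D.u) = D.d * D.u * w := fun w hw =>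
            ((show Commute w D.d from D.d_central w hw).mul_right (D.u_central hη w hw)).eq
          obtain ⟨n, hn, he⟩ := conj_in_normalizer S (mul_mem D.d_mem D.u_mem) hudS D.d_central hg
          apply D.u_ne
          have h2 : n * D.u * n⁻¹ = 1 := by
            have h3 : (n * D.d * n⁻¹) * (n * D.u * n⁻¹) = D.d := by rw [conj_mul]; exact he
            rw [hfix n hn] at h3
            exact mul_eq_left.1 h3
          exact conj_eq_one_iff.1 h2
    · exact absurd (isConj_iff.2 ⟨g, hg⟩) (hno z hz hzR hz2)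
  obtain ⟨g, hg⟩ := transfer hG S (D.M hq) (D.M_le hq) D.u_mem (D.u_notMem_M hq) (D.M_cover hq) D.u
    (by rw [show (8 : ℕ) = 2 * 4 from rfl, pow_mul, sq, D.u_sq, one_pow])
    (fun g _ => by rw [D.u_sq, mul_one, mul_inv_cancel]; exact one_mem _)
    (fun g _ => by rw [D.u_sq, mul_one, mul_one, mul_inv_cancel]; exact one_mem _)
  obtain ⟨j, hj | hj⟩ := D.mem_M.1 hg
  · rcases D.inv_cases (show D.r ^ j * D.r ^ j = 1 by
      rw [← hj, conj_mul, D.u_sq, mul_one, mul_inv_cancel]) with h | h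
    · rw [← hj, conj_eq_one_iff] at h
      exact D.u_ne h
    · exact D.u_not_conj_d hη hfix g (hj.trans h)
  set y := D.x * D.r ^ j with hy
  have hyS : y ∈ (S : Subgroup G) := mul_mem D.x_mem (zpow_mem D.r_mem _)
  -- bring the centraliser of `y` into `S`
  haveI : Fact (Nat.Prime 2) := ⟨Nat.prime_two⟩
  set C := centralizer ({D.u} : Set G) with hC
  have hSC : (S : Subgroup G) ≤ C := fun z hz => mem_centralizer_singleton_iff.2 (D.u_central hη z hz)
  have hd' : g⁻¹ * D.d * g ∈ C := mem_centralizer_singleton_iff.2 (by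
    rw [show D.u = g⁻¹ * y * g by rw [← hj]; group]
    calc g⁻¹ * D.d * g * (g⁻¹ * y * g) = g⁻¹ * (D.d * y) * g := by group
      _ = g⁻¹ * (y * D.d) * g := by rw [D.d_central y hyS]
      _ = g⁻¹ * y * g * (g⁻¹ * D.d * g) := by group)
  have hp : IsPGroup 2 (zpowers (⟨g⁻¹ * D.d * g, hd'⟩ : C)) := by
    refine IsPGroup.of_card (n := 1) ?_
    rw [Nat.card_zpowers, Subgroup.orderOf_mk, pow_one]
    have h1 : SemiconjBy g⁻¹ D.d (g⁻¹ * D.d * g) := by simp [SemiconjBy, mul_assoc]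
    rw [← h1.orderOf_eq]
    exact orderOf_eq_prime (by rw [sq, D.d_sq]) D.d_ne
  obtain ⟨S2, hS2⟩ := hp.exists_le_sylow
  obtain ⟨h, hh⟩ := MulAction.exists_smul_eq C S2 (S.subtype hSC)
  have hmem : h * ⟨g⁻¹ * D.d * g, hd'⟩ * h⁻¹ ∈ ((S.subtype hSC) : Subgroup C) := by
    rw [← hh, Sylow.coe_subgroup_smul]
    exact ⟨_, hS2 (mem_zpowers _), rfl⟩
  have hmem' : (h : G) * (g⁻¹ * D.d * g) * (h : G)⁻¹ ∈ (S : Subgroup G) := by
    simpa using mem_subgroupOf.1 hmem
  set a := (h : G) * g⁻¹ with ha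
  have had : a * D.d * a⁻¹ = D.d := by
    have e : (h : G) * (g⁻¹ * D.d * g) * (h : G)⁻¹ = a * D.d * a⁻¹ := by rw [ha]; group
    rw [e] at hmem'
    exact hwc _ hmem' a⁻¹ (by group)
  have hay : a * y * a⁻¹ = D.u := by
    rw [ha, ← hj, show (h : G) * g⁻¹ * (g * D.u * g⁻¹) * ((h : G) * g⁻¹)⁻¹ =
      (h : G) * D.u * (h : G)⁻¹ by group, mem_centralizer_singleton_iff.1 h.2, mul_inv_cancel_right]
  -- `y` and `yd` are conjugate
  set c := D.r ^ D.k with hc
  have hcy : c * y * c⁻¹ = y * D.d := by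
    have h1 : D.x⁻¹ * c * D.x = c⁻¹ := by rw [hc, D.x_rpow, hδ, one_zpow, mul_one, zpow_neg]
    have h2 : Commute c (D.r ^ j) := (Commute.refl D.r).zpow_zpow _ _
    calc c * y * c⁻¹ = D.x * ((D.x⁻¹ * c * D.x) * D.r ^ j * c⁻¹) := by rw [hy]; group
      _ = D.x * (D.r ^ j * (c * c)⁻¹) := by
          rw [h1, h2.inv_left.eq, mul_assoc, mul_inv_rev]
      _ = y * D.d := by rw [hc, D.k_sq, D.d_inv, hy, mul_assoc]
  refine D.u_not_conj_ud hη hfix (a * c * a⁻¹) ?_
  calc a * c * a⁻¹ * D.u * (a * c * a⁻¹)⁻¹ = a * (c * (a⁻¹ * D.u * a) * c⁻¹) * a⁻¹ := by group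
    _ = a * (c * y * c⁻¹) * a⁻¹ := by rw [← hay]; group
    _ = D.u * D.d := by rw [hcy, ← conj_mul, hay, had]

/-- All outside squares equal `d`. -/
theorem false_of_quaternion (D : Data S) (hG : ∀ H : Subgroup G, H.index ≠ 2)
    (hx : D.x * D.x = D.d) (hδ : D.δ = 1) (hη : D.η = 1) : False := by
  have hq : D.x * D.x ∈ zpowers D.r := hx ▸ D.d_zpow
  have hsq : ∀ z ∈ (S : Subgroup G), z * z * (z * z) = 1 → z * z = 1 ∨ z * z = D.d := by
    intro z hz h4
    obtain ⟨j, rfl | rfl | rfl | rfl⟩ := D.cover z hz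
    · rw [← zpow_add] at h4 ⊢; exact D.inv_cases h4
    · rw [D.sq_ru, ← zpow_add] at h4 ⊢; exact D.inv_cases h4
    · right; rw [D.sq_xr, hx, hδ, one_zpow, mul_one]
    · right; rw [D.sq_xru, hx, hδ, one_zpow, mul_one, hη, mul_one]
  have hfix := fixed_of_square S (zpow_mem D.r_mem D.k) D.k_sq D.d_ne D.d_sq hsq
  obtain ⟨g, hg⟩ := transfer hG S (D.M hq) (D.M_le hq) D.u_mem (D.u_notMem_M hq) (D.M_cover hq) D.u
    (by rw [show (8 : ℕ) = 2 * 4 from rfl, pow_mul, sq, D.u_sq, one_pow])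
    (fun g _ => by rw [D.u_sq, mul_one, mul_inv_cancel]; exact one_mem _)
    (fun g _ => by rw [D.u_sq, mul_one, mul_one, mul_inv_cancel]; exact one_mem _)
  obtain ⟨j, hj | hj⟩ := D.mem_M.1 hg
  · rcases D.inv_cases (show D.r ^ j * D.r ^ j = 1 by
      rw [← hj, conj_mul, D.u_sq, mul_one, mul_inv_cancel]) with h | h
    · rw [← hj, conj_eq_one_iff] at h
      exact D.u_ne h
    · exact D.u_not_conj_d hη hfix g (hj.trans h)
  · refine D.d_ne ?_
    have h1 := D.sq_xr j
    rw [← hj, conj_mul, D.u_sq, mul_one, mul_inv_cancel, hx, hδ, one_zpow, mul_one] at h1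
    exact h1.symm

theorem eq_ud_cases (D : Data S) (hx : D.x * D.x = D.u ∨ D.x * D.x = D.u * D.d) (e : G)
    (he : e = 1 ∨ e = D.d) : D.x * D.x * e = D.u ∨ D.x * D.x * e = D.u * D.d := by
  rcases hx with h | h <;> rcases he with rfl | rfl <;> rw [h]
  exacts [Or.inl (mul_one _), Or.inr rfl, Or.inr (mul_one _),
    Or.inl (by rw [mul_assoc, D.d_sq, mul_one])]

/-- All outside squares lie in `{u, ud}`. -/
theorem false_of_squares_outside (D : Data S) (hG : ∀ H : Subgroup G, H.index ≠ 2)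
    (hperf : commutator G = ⊤) (hx : D.x * D.x = D.u ∨ D.x * D.x = D.u * D.d) (hδ : D.δ = D.d)
    (hη : D.η = 1) : False := by
  have hq4 : D.x * D.x * (D.x * D.x) = 1 := by
    rcases hx with h | h <;> rw [h]
    · exact D.u_sq
    · rw [D.u_d.symm.mul_mul_mul_comm, D.u_sq, D.d_sq, one_mul]
  have hout2 : ∀ z ∈ (S : Subgroup G), z ∉ D.R → z * z = D.u ∨ z * z = D.u * D.d := by
    intro z hz hzR
    obtain ⟨j, rfl | rfl | rfl | rfl⟩ := D.cover z hz
    · exact absurd ⟨j, Or.inl rfl⟩ hzR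
    · exact absurd ⟨j, Or.inr rfl⟩ hzR
    · rw [D.sq_xr]; exact D.eq_ud_cases hx _ (D.delta_pow j)
    · rw [D.sq_xru, hη, mul_one]; exact D.eq_ud_cases hx _ (D.delta_pow j)
  have hud1 : D.u * D.d ≠ 1 := fun h => D.u_ne_d (by rw [← D.d_inv]; exact eq_inv_of_mul_eq_one_left h)
  have hinvR : ∀ z ∈ (S : Subgroup G), z * z = 1 → z ∈ D.R := by
    intro z hz h2
    by_contra hzR
    rcases hout2 z hz hzR with h | h <;> rw [h2] at h
    exacts [D.u_ne h.symm, hud1 h.symm]
  by_cases hr4 : D.r ^ (4 : ℕ) = 1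
  · -- the homocyclic case
    haveI : Fact (Nat.Prime 2) := ⟨Nat.prime_two⟩
    have hr2 : D.r * D.r = D.d := by
      have h := D.inv_cases (i := 2) (by rw [← zpow_add]; exact_mod_cast hr4)
      rw [zpow_two] at h
      refine h.resolve_left fun h => D.d_ne ?_
      rw [← D.k_sq, ← (Commute.refl D.r).mul_zpow, h, one_zpow]
    have hrx : Commute D.r D.x := by
      have h := D.x_r
      rw [hδ, ← hr2, inv_mul_cancel_left] at h
      show D.r * D.x = D.x * D.r
      conv_rhs => rw [← h]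
      group
    have hx4 : D.x ^ 4 = 1 := by rw [show (4 : ℕ) = 2 * 2 from rfl, pow_mul, sq, sq, hq4]
    set rS : (S : Subgroup G) := ⟨D.r, D.r_mem⟩ with hrS
    set xS : (S : Subgroup G) := ⟨D.x, D.x_mem⟩ with hxS
    let f1 : Multiplicative (ZMod 4) →* (S : Subgroup G) :=
      AddMonoidHom.toMultiplicativeLeft (ZMod.lift 4 ⟨zmultiplesHom _ (Additive.ofMul rS), by
        rw [zmultiplesHom_apply, ← ofMul_zpow, ← ofMul_one]
        congr 1
        exact Subtype.ext (by rw [SubgroupClass.coe_zpow, hrS]; exact (zpow_natCast D.r 4).trans hr4)⟩)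
    let f2 : Multiplicative (ZMod 4) →* (S : Subgroup G) :=
      AddMonoidHom.toMultiplicativeLeft (ZMod.lift 4 ⟨zmultiplesHom _ (Additive.ofMul xS), by
        rw [zmultiplesHom_apply, ← ofMul_zpow, ← ofMul_one]
        congr 1
        exact Subtype.ext (by rw [SubgroupClass.coe_zpow, hxS]; exact (zpow_natCast D.x 4).trans hx4)⟩)
    have hf1 : ∀ i : ℤ, (f1 (Multiplicative.ofAdd (i : ZMod 4)) : G) = D.r ^ i := fun i => by
      simp [f1, hrS, ← ofMul_zpow]
    have hf2 : ∀ i : ℤ, (f2 (Multiplicative.ofAdd (i : ZMod 4)) : G) = D.x ^ i := fun i => by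
      simp [f2, hxS, ← ofMul_zpow]
    have hcomm : ∀ a b, Commute (f1 a) (f2 b) := fun a b => by
      obtain ⟨i, hi⟩ := ZMod.intCast_surjective (Multiplicative.toAdd a)
      obtain ⟨j, hj⟩ := ZMod.intCast_surjective (Multiplicative.toAdd b)
      have ea : a = Multiplicative.ofAdd (i : ZMod 4) := by rw [hi]; rfl
      have eb : b = Multiplicative.ofAdd (j : ZMod 4) := by rw [hj]; rfl
      apply Subtype.ext
      show (f1 a : G) * f2 b = f2 b * f1 a
      rw [ea, eb, hf1, hf2]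
      exact hrx.zpow_zpow i j
    let f := MonoidHom.noncommCoprod f1 f2 hcomm
    have hxR2 : ∀ i j : ℤ, D.r ^ i * D.x ^ j = 1 → (4 : ℤ) ∣ i ∧ (4 : ℤ) ∣ j := by
      intro i j h
      obtain ⟨l, rfl⟩ | ⟨l, rfl⟩ := Int.even_or_odd j
      · rw [zpow_add, ← (Commute.refl D.x).mul_zpow] at h
        obtain ⟨e, rfl⟩ | ⟨e, rfl⟩ := Int.even_or_odd l
        · rw [zpow_add, ← (Commute.refl (D.x * D.x)).mul_zpow, hq4, one_zpow, mul_one] at h
          refine ⟨?_, ⟨e, by ring⟩⟩
          obtain ⟨m, rfl⟩ | ⟨m, rfl⟩ := Int.even_or_odd i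
          · rw [zpow_add, ← (Commute.refl D.r).mul_zpow, hr2] at h
            obtain ⟨w, rfl⟩ | ⟨w, rfl⟩ := Int.even_or_odd m
            · exact ⟨w, by ring⟩
            · rw [zpow_add, zpow_one, zpow_mul, zpow_two, D.d_sq, one_zpow, one_mul] at h
              exact absurd h D.d_ne
          · exfalso
            have h2 : D.r ^ (2 * m + 1) * D.r ^ (2 * m + 1) = 1 := by rw [h, one_mul]
            rw [← (Commute.refl D.r).mul_zpow, hr2, zpow_add, zpow_one, zpow_mul, zpow_two, D.d_sq,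
              one_zpow, one_mul] at h2
            exact D.d_ne h2
        · exfalso
          have hq1 : (D.x * D.x) ^ (2 * e + 1) = D.x * D.x := by
            rw [zpow_add, zpow_one, zpow_mul, zpow_two, hq4, one_zpow, one_mul]
          rw [hq1] at h
          rcases hx with hx' | hx' <;> rw [hx'] at h
          · exact D.u_notMem (-i) (by rw [zpow_neg, inv_eq_of_mul_eq_one_right h])
          · refine D.u_notMem (-i + (D.k + D.k)) ?_
            rw [zpow_add, zpow_neg, inv_eq_of_mul_eq_one_right h, D.d_eq, mul_assoc, D.d_sq, mul_one]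
      · exfalso
        have hxl : D.x ^ (2 * l) ∈ D.R := by
          rw [zpow_mul, zpow_two]; exact zpow_mem D.x_sq _
        have h' : D.x = (D.x ^ (2 * l))⁻¹ * (D.r ^ i)⁻¹ := by
          rw [← mul_inv_rev, eq_inv_iff_mul_eq_one, ← mul_assoc, ← (hrx.zpow_left i).eq, mul_assoc, ← h]
          congr 1
          rw [add_comm, zpow_add, zpow_one]
        refine D.x_notMem_R ?_
        rw [h']
        exact mul_mem (inv_mem hxl) (inv_mem ⟨i, Or.inl rfl⟩)
    have hinj : Function.Injective f := by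
      rw [injective_iff_map_eq_one]
      rintro ⟨a, b⟩ hab
      obtain ⟨i, hi⟩ := ZMod.intCast_surjective (Multiplicative.toAdd a)
      obtain ⟨j, hj⟩ := ZMod.intCast_surjective (Multiplicative.toAdd b)
      have ea : a = Multiplicative.ofAdd (i : ZMod 4) := by rw [hi]; rfl
      have eb : b = Multiplicative.ofAdd (j : ZMod 4) := by rw [hj]; rfl
      have h := congrArg Subtype.val hab
      simp only [f, MonoidHom.noncommCoprod_apply, Subgroup.coe_mul, OneMemClass.coe_one, ea, eb,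
        hf1, hf2] at h
      obtain ⟨h1, h2⟩ := hxR2 i j h
      ext
      · exact hi ▸ (ZMod.intCast_zmod_eq_zero_iff_dvd i 4).2 (by exact_mod_cast h1)
      · exact hj ▸ (ZMod.intCast_zmod_eq_zero_iff_dvd j 4).2 (by exact_mod_cast h2)
    have hsurj : Function.Surjective f := by
      intro z
      have hu : ∃ i j : ℤ, D.u = D.r ^ i * D.x ^ j := by
        rcases hx with h | h
        · exact ⟨0, 2, by rw [zpow_zero, one_mul, zpow_two, h]⟩
        · exact ⟨D.k + D.k, 2, by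
            rw [D.d_eq, zpow_two, h, D.u_d.eq, ← mul_assoc, D.d_sq, one_mul]⟩
      obtain ⟨a, b, hab⟩ := hu
      have hzz : ∃ i j : ℤ, (z : G) = D.r ^ i * D.x ^ j := by
        obtain ⟨m, h | h | h | h⟩ := D.cover z z.2
        · exact ⟨m, 0, by rw [h, zpow_zero, mul_one]⟩
        · exact ⟨m + a, b, by rw [h, hab, zpow_add, mul_assoc]⟩
        · exact ⟨m, 1, by rw [h, zpow_one, (hrx.zpow_left m).eq]⟩
        · exact ⟨m + a, b + 1, by
            rw [h, hab, ← mul_assoc (D.r ^ m), ← zpow_add, ← mul_assoc,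
              ← (hrx.zpow_left (m + a)).eq, mul_assoc, (Commute.self_zpow D.x b).eq,
              ← zpow_add_one]⟩
      obtain ⟨i, j, hij⟩ := hzz
      refine ⟨(Multiplicative.ofAdd (i : ZMod 4), Multiplicative.ofAdd (j : ZMod 4)), Subtype.ext ?_⟩
      simp only [f, MonoidHom.noncommCoprod_apply, Subgroup.coe_mul, hf1, hf2, hij]
    let e : (S : Subgroup G) ≃* Multiplicative (ZMod (2 ^ 2) × ZMod (2 ^ 2)) :=
      (MulEquiv.ofBijective f ⟨hinj, hsurj⟩).symm.trans
        (MulEquiv.prodMultiplicative (ZMod 4) (ZMod 4)).symm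
    obtain ⟨O, hOmax⟩ := (Set.toFinite {N : Subgroup G | N.Normal ∧ Odd (Nat.card N)}).exists_maximal
      ⟨⊥, inferInstance, by simp⟩
    haveI : O.Normal := hOmax.prop.1
    have hOodd : Odd (Nat.card O) := hOmax.prop.2
    let π := QuotientGroup.mk' O
    have hπ : Function.Surjective π := QuotientGroup.mk'_surjective O
    let S' : Sylow 2 (G ⧸ O) := S.mapSurjective hπ
    have hker : ∀ w : G, w ∈ (S : Subgroup G) → π w = 1 → w = 1 := fun w hw h => by
      rw [QuotientGroup.mk'_apply, QuotientGroup.eq_one_iff] at h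
      obtain ⟨n, hn⟩ := IsPGroup.iff_orderOf.1 S.2 ⟨w, hw⟩
      rw [Subgroup.orderOf_mk] at hn
      have hdvd : orderOf w ∣ Nat.card O := Subgroup.orderOf_mk w h ▸ orderOf_dvd_natCard _
      rw [← orderOf_eq_one_iff]
      rw [hn] at hdvd ⊢
      rcases Nat.eq_zero_or_pos n with rfl | hn0
      · rfl
      · exact absurd ((dvd_pow_self 2 hn0.ne').trans hdvd) hOodd.not_two_dvd_nat
    let φ : (S : Subgroup G) ≃* ((S : Subgroup G).map π : Subgroup (G ⧸ O)) := MulEquiv.ofBijective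
      ((π.subgroupMap (S : Subgroup G)))
      ⟨(injective_iff_map_eq_one _).2 fun w hw =>
          Subtype.ext (hker w w.2 (congrArg Subtype.val hw)),
       MonoidHom.subgroupMap_surjective π _⟩
    obtain ⟨hn, -, hidx⟩ := S0949.result S' 2 le_rfl (φ.symm.trans e) (fun N hN hodd => by
      haveI := hN
      have hle : O ≤ N.comap π := fun a ha => by
        rw [mem_comap, QuotientGroup.mk'_apply, (QuotientGroup.eq_one_iff a).2 ha]
        exact one_mem _
      have hc : Nat.card (N.comap π) = Nat.card O * Nat.card N := by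
        have h1 := (O.subgroupOf (N.comap π)).card_mul_index
        rw [Nat.card_congr (subgroupOfEquivOfLe hle).toEquiv] at h1
        rw [← h1, show (O.subgroupOf (N.comap π)).index = Nat.card N by
          rw [← Subgroup.relIndex]
          conv_lhs => arg 1; rw [← QuotientGroup.ker_mk' O]
          rw [relIndex_ker, map_comap_eq_self_of_surjective hπ]]
      have hN' : (N.comap π).Normal ∧ Odd (Nat.card (N.comap π)) :=
        ⟨inferInstance, hc ▸ hOodd.mul hodd⟩
      have heq : N.comap π ≤ O := hOmax.le_of_ge hN' hle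
      rw [eq_bot_iff]
      intro w hw
      obtain ⟨a, rfl⟩ := hπ w
      rw [mem_bot, QuotientGroup.mk'_apply, QuotientGroup.eq_one_iff]
      exact heq hw)
    haveI := hn
    have hpq : commutator (G ⧸ O) = ⊤ := by
      rw [_root_.commutator_def, ← MonoidHom.range_eq_top.2 hπ, MonoidHom.range_eq_map,
        ← map_commutator, ← _root_.commutator_def, hperf]
    have hle : commutator (G ⧸ O) ≤ (S' : Subgroup (G ⧸ O)) := by
      rcases hidx with h | h
      · rw [index_eq_one] at h; rw [h]; exact le_top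
      · haveI : Fact (Nat.Prime 3) := ⟨Nat.prime_three⟩
        haveI : IsCyclic ((G ⧸ O) ⧸ (S' : Subgroup (G ⧸ O))) := isCyclic_of_prime_card (p := 3) h
        rw [_root_.commutator_def, Subgroup.commutator_le]
        intro a _ b _
        rw [← QuotientGroup.eq_one_iff, ← QuotientGroup.mk'_apply, map_commutatorElement,
          commutatorElement_eq_one_iff_mul_comm]
        exact IsCyclic.isMulCommutative.is_comm.comm _ _
    rw [hpq, top_le_iff] at hle
    have habS : IsMulCommutative (S' : Subgroup (G ⧸ O)) := ⟨⟨fun a b => by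
      let ψ : (S' : Subgroup (G ⧸ O)) ≃* Multiplicative (ZMod (2 ^ 2) × ZMod (2 ^ 2)) := φ.symm.trans e
      apply ψ.injective
      rw [map_mul, map_mul, mul_comm]⟩⟩
    haveI := habS
    have hb : commutator (G ⧸ O) = ⊥ := by
      rw [_root_.commutator_def, ← hle, Subgroup.commutator_eq_bot_iff_le_centralizer]
      exact fun a ha => mem_centralizer_iff.2 fun b hb =>
        congrArg Subtype.val (mul_comm' (⟨b, hb⟩ : (S' : Subgroup (G ⧸ O))) ⟨a, ha⟩)
    rw [hpq] at hb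
    refine D.d_ne (hker _ D.d_mem ?_)
    exact mem_bot.1 (hb ▸ mem_top _)
  -- `d` is a fourth power
  have hkeven : ∃ h : ℤ, D.r ^ D.k = D.r ^ (h + h) := by
    obtain ⟨h, hk⟩ | ⟨h, hk⟩ := Int.even_or_odd D.k
    · exact ⟨h, by rw [← hk]⟩
    · exfalso
      apply hr4
      have : orderOf D.r ∣ 4 := by
        haveI : Fact (Nat.Prime 2) := ⟨Nat.prime_two⟩
        obtain ⟨n, hn⟩ := IsPGroup.iff_orderOf.1 S.2 ⟨D.r, D.r_mem⟩
        rw [Subgroup.orderOf_mk] at hn
        have h1 : ((orderOf D.r : ℕ) : ℤ) ∣ 4 * D.k := by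
          rw [orderOf_dvd_iff_zpow_eq_one, show (4 : ℤ) * D.k = (D.k + D.k) + (D.k + D.k) by ring,
            zpow_add, D.d_eq, D.d_sq]
        rw [hn, hk] at h1
        have hcop : IsCoprime ((2 : ℤ) ^ n) (2 * h + 1) :=
          (show IsCoprime (2 : ℤ) (2 * h + 1) from ⟨-h, 1, by ring⟩).pow_left
        push_cast at h1
        have h2 := hcop.dvd_of_dvd_mul_right h1
        rw [hn]
        exact_mod_cast h2
      exact orderOf_dvd_iff_pow_eq_one.1 this
  obtain ⟨h, hk⟩ := hkeven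
  have hfix : ∀ n ∈ normalizer ((S : Subgroup G) : Set G), n * D.d * n⁻¹ = D.d := by
    intro n hn
    set w := n * D.r ^ h * n⁻¹ with hw
    have hwS : w ∈ (S : Subgroup G) := sylow_map_conj_le S hn (zpow_mem D.r_mem h)
    have hw4 : w * w * (w * w) = n * D.d * n⁻¹ := by
      rw [hw, conj_mul, conj_mul, ← zpow_add, ← hk, D.k_sq]
    by_cases hwR : w ∈ D.R
    · obtain ⟨j, hj | hj⟩ := hwR
      all_goals
        first | rw [hj, ← zpow_add] at hw4 | rw [hj, D.sq_ru, ← zpow_add] at hw4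
        rw [← zpow_add] at hw4
        refine hw4 ▸ (D.inv_cases ?_).resolve_left (fun h1 => D.d_ne ?_)
        · rw [hw4, conj_mul, D.d_sq, mul_one, mul_inv_cancel]
        · rw [hw4, conj_eq_one_iff] at h1; exact h1
    · exfalso
      apply D.d_ne
      have h1 : w * w * (w * w) = 1 := by
        rcases hout2 w hwS hwR with h | h <;> rw [h]
        · exact D.u_sq
        · rw [D.u_d.symm.mul_mul_mul_comm, D.u_sq, D.d_sq, one_mul]
      rw [h1] at hw4
      exact conj_eq_one_iff.1 hw4.symm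
  obtain ⟨g, hg⟩ := transfer hG S D.R D.R_le D.x_mem D.x_notMem_R D.R_cover D.x
    (by
      have : D.x ^ 8 = D.x * D.x * (D.x * D.x) * (D.x * D.x * (D.x * D.x)) := by
        simp only [pow_succ, pow_zero, one_mul, mul_assoc]
      rw [this, hq4, one_mul])
    (fun g hg => hinvR _ hg (by rw [conj_mul, hq4, mul_one, mul_inv_cancel]))
    (fun g _ => by rw [hq4, mul_one, mul_inv_cancel]; exact one_mem _)
  obtain ⟨j, hj⟩ := hg
  have hw : g * (D.x * D.x) * g⁻¹ = D.r ^ j * D.r ^ j := by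
    rw [← conj_mul]
    rcases hj with hj | hj <;> rw [hj]
    exact D.sq_ru j
  rw [← zpow_add] at hw
  rcases D.inv_cases (i := j + j) (by rw [← hw, conj_mul, hq4, mul_one, mul_inv_cancel]) with hd | hd
  · rw [hd, conj_eq_one_iff] at hw
    rcases hx with h | h <;> rw [hw] at h
    exacts [D.u_ne h.symm, hud1 h.symm]
  rw [hd] at hw
  rcases hx with hx' | hx' <;> rw [hx'] at hw
  · exact D.u_not_conj_d hη hfix g hw
  · obtain ⟨n, hn, he⟩ := conj_in_normalizer S (mul_mem D.u_mem D.d_mem) (fun z hz =>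
      ((show Commute z D.u from D.u_central hη z hz).mul_right (D.d_central z hz)).eq) D.d_central hw
    apply D.u_ne
    have h2 : n * D.u * n⁻¹ = 1 := by
      have h3 : (n * D.u * n⁻¹) * (n * D.d * n⁻¹) = D.d := by rw [conj_mul]; exact he
      rw [hfix n hn] at h3
      exact mul_eq_right.1 h3
    exact conj_eq_one_iff.1 h2

end Data

/-- A cyclic complement to the four-group centralising it. -/
theorem false_of_abelian (hG : ∀ H : Subgroup G, H.index ≠ 2) (S : Sylow 2 G) {r u d : G} {k : ℤ}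
    (hr : r ∈ (S : Subgroup G)) (hd1 : d ≠ 1) (hdd : d * d = 1) (hk : r ^ k * r ^ k = d)
    (huu : u * u = 1) (hru : Commute r u)
    (hcov : ∀ z ∈ (S : Subgroup G), ∃ j : ℤ, z = r ^ j ∨ z = r ^ j * u) : False := by
  have hab : IsMulCommutative (S : Subgroup G) := ⟨⟨fun a b => by
    obtain ⟨i, ha | ha⟩ := hcov a a.2 <;> obtain ⟨j, hb | hb⟩ := hcov b b.2 <;>
      refine Subtype.ext ?_ <;> rw [Subgroup.coe_mul, Subgroup.coe_mul, ha, hb]
    · exact ((Commute.refl r).zpow_zpow i j).eq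
    · exact (((Commute.refl r).zpow_zpow i j).mul_right (hru.zpow_left i)).eq
    · exact (((Commute.refl r).zpow_zpow i j).mul_left (hru.zpow_left j).symm).eq
    · exact ((((Commute.refl r).zpow_zpow i j).mul_right (hru.zpow_left i)).mul_left
        ((hru.zpow_left j).symm.mul_right (Commute.refl _))).eq⟩⟩
  have hk' : r ^ (k + k) = d := by rw [zpow_add, hk]
  have hsq : ∀ z ∈ (S : Subgroup G), z * z * (z * z) = 1 → z * z = 1 ∨ z * z = d := by
    intro z hz h4
    obtain ⟨j, rfl | rfl⟩ := hcov z hz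
    · rw [← zpow_add] at h4 ⊢; exact zpow_eq_of_square_eq_one hd1 hdd hk' h4
    · rw [(hru.zpow_left j).symm.mul_mul_mul_comm, huu, mul_one, ← zpow_add] at h4 ⊢
      exact zpow_eq_of_square_eq_one hd1 hdd hk' h4
  refine hd1 (H50.abelian_sylow_fixed_trivial hG S hab (v := d) (hk ▸ mul_mem (zpow_mem hr _) (zpow_mem hr _))
    fun n hn => ?_)
  exact mul_inv_eq_iff_eq_mul.1 (fixed_of_square S (zpow_mem hr k) hk hd1 hdd hsq n hn)

/-- A cyclic complement to the four-group moving it, with an element of order four fixing it. -/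
theorem false_of_modular (hG : ∀ H : Subgroup G, H.index ≠ 2) (S : Sylow 2 G) {r u d : G} {k : ℤ}
    (hr : r ∈ (S : Subgroup G)) (hu : u ∈ (S : Subgroup G))
    (hd : ∀ z ∈ (S : Subgroup G), z * d = d * z) (hd1 : d ≠ 1) (hdd : d * d = 1)
    (hk : r ^ k * r ^ k = d) (huu : u * u = 1) (hu1 : u ≠ 1) (hud : u ≠ d)
    (hru : u * r * u = r * d) (hku : Commute (r ^ k) u)
    (hcov : ∀ z ∈ (S : Subgroup G), ∃ j : ℤ, z = r ^ j ∨ z = r ^ j * u) : False := by
  have hk' : r ^ (k + k) = d := by rw [zpow_add, hk]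
  have hdr : d ∈ zpowers r := hk' ▸ zpow_mem (mem_zpowers _) _
  have huM : u ∉ zpowers r := by
    rintro ⟨j, hj⟩
    rcases zpow_eq_of_square_eq_one hd1 hdd hk' (i := j)
      (by rw [show r ^ j = u from hj, huu]) with h | h
    · exact hu1 (hj ▸ h)
    · exact hud (hj ▸ h)
  have hconj : ∀ j : ℤ, u * r ^ j * u = r ^ j * d ^ j := fun j => by
    have h1 : u * r * u⁻¹ = r * d := by rw [inv_eq_of_mul_eq_one_right huu, hru]
    calc u * r ^ j * u = u * r ^ j * u⁻¹ := by rw [inv_eq_of_mul_eq_one_right huu]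
      _ = r ^ j * d ^ j := by rw [← conj_zpow, h1, (show Commute r d from hd r hr).mul_zpow]
  have hle : zpowers r ≤ (S : Subgroup G) := zpowers_le.2 hr
  have hcov' : ∀ z ∈ (S : Subgroup G), z ∈ zpowers r ∨ u⁻¹ * z ∈ zpowers r := by
    intro z hz
    obtain ⟨j, rfl | rfl⟩ := hcov z hz
    · exact Or.inl (zpow_mem (mem_zpowers _) _)
    · refine Or.inr ?_
      rw [inv_eq_of_mul_eq_one_right huu, ← mul_assoc, hconj]
      exact mul_mem (zpow_mem (mem_zpowers _) _) (zpow_mem hdr _)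
  obtain ⟨g, hg⟩ := transfer hG S (zpowers r) hle hu huM hcov' u
    (by rw [show (8 : ℕ) = 2 * 4 from rfl, pow_mul, sq, huu, one_pow])
    (fun g _ => by rw [huu, mul_one, mul_inv_cancel]; exact one_mem _)
    (fun g _ => by rw [huu, mul_one, mul_one, mul_inv_cancel]; exact one_mem _)
  obtain ⟨j, hj⟩ := hg
  have hgu : g * u * g⁻¹ = d := by
    rcases zpow_eq_of_square_eq_one hd1 hdd hk' (i := j) (by
      rw [show r ^ j = g * u * g⁻¹ from hj, conj_mul, huu, mul_one, mul_inv_cancel]) with h | h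
    · rw [show r ^ j = g * u * g⁻¹ from hj, conj_eq_one_iff] at h
      exact absurd h hu1
    · rw [← hj]; exact h
  refine hud (eq_of_conj_of_square S hd hd1 hdd ?_ (zpow_mem hr k) hku hk hgu)
  intro z hz h4
  have key : z * z ∈ zpowers r := by
    obtain ⟨i, rfl | rfl⟩ := hcov z hz
    · exact mul_mem (zpow_mem (mem_zpowers _) _) (zpow_mem (mem_zpowers _) _)
    · rw [mul_assoc, ← mul_assoc u, hconj]
      exact mul_mem (zpow_mem (mem_zpowers _) _)
        (mul_mem (zpow_mem (mem_zpowers _) _) (zpow_mem hdr _))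
  obtain ⟨i, hi⟩ := key
  rw [← show r ^ i = z * z from hi] at h4 ⊢
  exact zpow_eq_of_square_eq_one hd1 hdd hk' h4

end Cfsg.Agent.H62.CyclicFix
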