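import Cfsg.Agent.H62.CyclicFix.Cases
import Cfsg.Agent.H51.FourGroupRankOne

/-!
# The Sylow 2-subgroup of a perfect normal subgroup with small fixed points has a normal four-group

`t` is an involution outside the perfect normal subgroup `A` of index two whose centraliser in `A`
has cyclic Sylow 2-subgroups of order four. Either `A` has 2-rank one or a Sylow 2-subgroup `T`
normalises a four-group of `A ⊓ T`.
-/

set_option autoImplicit false
set_option linter.unusedVariables false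
set_option linter.unusedSectionVars false
set_option linter.style.haveILetI false

namespace Cfsg.Agent.H62.CyclicFix

open Subgroup
open scoped commutatorElement

/-- The hypotheses. -/
structure Ctx {K : Type*} [Group K] (A : Subgroup K) where
  T : Sylow 2 K
  t : K
  c : K
  normal : A.Normal
  perfect : commutator A = ⊤
  gen : ∀ g : K, g ∈ A ∨ t * g ∈ A
  t_notMem : t ∉ A
  t_mem : t ∈ (T : Subgroup K)
  t_sq : t * t = 1
  c_mem : c ∈ A ⊓ (T : Subgroup K)
  t_c : Commute t c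
  c_ne : c * c ≠ 1
  c_four : c * c * (c * c) = 1
  fix : ∀ p ∈ A ⊓ (T : Subgroup K), Commute t p →
    p = 1 ∨ p = c * c ∨ p = c ∨ p = c * (c * c)
  one_inv : ∀ p ∈ A, ∀ q ∈ A, p * p = 1 → q * q = 1 → p ≠ 1 → q ≠ 1 →
    Commute p q → Commute t p → Commute t q → p = q

namespace Ctx

variable {K : Type*} [Group K] [Finite K] {A : Subgroup K} (C : Ctx A)

/-- The Sylow subgroup of `A`. -/
def P : Subgroup K := A ⊓ (C.T : Subgroup K)

/-- The involution. -/
def d : K := C.c * C.c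

theorem d_sq : C.d * C.d = 1 := C.c_four
theorem d_ne : C.d ≠ 1 := C.c_ne
theorem d_mem : C.d ∈ C.P := mul_mem C.c_mem C.c_mem
theorem d_inv : C.d⁻¹ = C.d := inv_eq_of_mul_eq_one_right C.d_sq
theorem t_inv : C.t⁻¹ = C.t := inv_eq_of_mul_eq_one_right C.t_sq
theorem c_inv : C.c⁻¹ = C.c * C.d :=
  inv_eq_of_mul_eq_one_right (by rw [← mul_assoc]; exact C.d_sq)

theorem conj_mem {g p : K} (hg : g ∈ (C.T : Subgroup K)) (hp : p ∈ C.P) : g * p * g⁻¹ ∈ C.P :=
  ⟨C.normal.conj_mem p hp.1 g,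
    (C.T : Subgroup K).mul_mem ((C.T : Subgroup K).mul_mem hg hp.2) ((C.T : Subgroup K).inv_mem hg)⟩

include C in
theorem not_index_two : ∀ H : Subgroup A, H.index ≠ 2 := fun H hH => by
  have hn : H.Normal := normal_of_index_eq_two hH
  have hle : commutator A ≤ H := by
    rw [_root_.commutator_def, Subgroup.commutator_le]
    intro b _ d _
    rw [← QuotientGroup.eq_one_iff, ← QuotientGroup.mk'_apply, map_commutatorElement,
      commutatorElement_eq_one_iff_mul_comm]
    haveI : Fact (Nat.Prime 2) := ⟨Nat.prime_two⟩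
    haveI : IsCyclic (A ⧸ H) := isCyclic_of_prime_card (p := 2) hH
    exact IsCyclic.isMulCommutative.is_comm.comm _ _
  rw [C.perfect, top_le_iff] at hle
  rw [hle, index_top] at hH
  omega

theorem isPGroup_P : IsPGroup 2 (C.P.subgroupOf A) :=
  (C.T.isPGroup'.to_le inf_le_right).comap_subtype

theorem not_dvd_index : ¬ 2 ∣ (C.P.subgroupOf A).index := by
  show ¬ 2 ∣ C.P.relIndex A
  rw [P, inf_relIndex_left]
  haveI := C.normal
  haveI : Fact (Nat.Prime 2) := ⟨Nat.prime_two⟩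
  exact H22.sylow_not_dvd_relIndex_normal C.T A

/-- `P` as a Sylow subgroup of `A`. -/
noncomputable def sylowA : Sylow 2 A :=
  haveI : Fact (Nat.Prime 2) := ⟨Nat.prime_two⟩
  C.isPGroup_P.toSylow C.not_dvd_index

theorem mem_sylowA {p : A} : p ∈ (C.sylowA : Subgroup A) ↔ (p : K) ∈ C.P := by
  haveI : Fact (Nat.Prime 2) := ⟨Nat.prime_two⟩
  rw [sylowA, IsPGroup.toSylow_coe]
  exact mem_subgroupOf

theorem conj_mem_of_index_two (M : Subgroup K) (hMP : M ≤ C.P) {x' : K} (hx' : x' ∈ C.P)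
    (hx'M : x' ∉ M) (hcov : ∀ z ∈ C.P, z ∈ M ∨ x'⁻¹ * z ∈ M) {x : K} (hx : x ∈ A) (h8 : x ^ 8 = 1)
    (h2 : ∀ a ∈ A, a * (x * x) * a⁻¹ ∈ C.P → a * (x * x) * a⁻¹ ∈ M)
    (h4 : ∀ a ∈ A, a * (x * x * (x * x)) * a⁻¹ ∈ C.P → a * (x * x * (x * x)) * a⁻¹ ∈ M) :
    ∃ a ∈ A, a * x * a⁻¹ ∈ M := by
  obtain ⟨g, hg⟩ := transfer C.not_index_two C.sylowA (M.subgroupOf A)
    (fun z hz => C.mem_sylowA.2 (hMP hz)) (x' := ⟨x', hx'.1⟩) (C.mem_sylowA.2 hx') hx'M
    (fun z hz => hcov z (C.mem_sylowA.1 hz)) ⟨x, hx⟩ (Subtype.ext h8)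
    (fun g hg => h2 g g.2 (C.mem_sylowA.1 hg)) (fun g hg => h4 g g.2 (C.mem_sylowA.1 hg))
  exact ⟨g, g.2, hg⟩

/-- The involution is central in `T`. -/
theorem d_central : ∀ g ∈ (C.T : Subgroup K), g * C.d = C.d * g := by
  haveI := C.normal
  haveI : (C.P.subgroupOf (C.T : Subgroup K)).Normal := ⟨fun p hp g => C.conj_mem g.2 hp⟩
  obtain ⟨z, hzP, hz1, hz2, hzc⟩ := H51.FourGroupRankOne.exists_central_step C.T.isPGroup' ⊥
    (C.P.subgroupOf (C.T : Subgroup K)) (fun h => C.d_ne (by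
      have := h (show (⟨C.d, C.d_mem.2⟩ : (C.T : Subgroup K)) ∈ C.P.subgroupOf _ from C.d_mem)
      exact congrArg Subtype.val (mem_bot.1 this)))
  have hzT : ∀ g ∈ (C.T : Subgroup K), g * (z : K) = z * g := fun g hg =>
    mul_inv_eq_iff_eq_mul.1 (congrArg Subtype.val (mul_inv_eq_one.1 (mem_bot.1 (hzc ⟨g, hg⟩))))
  have hz2' : (z : K) * z = 1 := congrArg Subtype.val (mem_bot.1 hz2)
  rcases C.fix z hzP (hzT C.t C.t_mem) with h | h | h | h
  · exact absurd (mem_bot.2 (Subtype.ext h)) hz1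
  · exact fun g hg => by rw [show C.d = (z : K) from h.symm]; exact hzT g hg
  · rw [h] at hz2'; exact absurd hz2' C.c_ne
  · rw [h] at hz2'
    exfalso
    apply C.c_ne
    rwa [(show Commute C.c (C.c * C.c) from
      (Commute.refl _).mul_right (Commute.refl _)).symm.mul_mul_mul_comm, C.c_four, mul_one] at hz2'

/-- Either one involution, or a four-group normalised by `T`. -/
theorem unique_or_four : (∀ r ∈ C.P, r * r = 1 → r = 1 ∨ r = C.d) ∨
    ∃ u ∈ C.P, u * u = 1 ∧ u ≠ 1 ∧ u ≠ C.d ∧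
      ∀ g ∈ (C.T : Subgroup K), g * u * g⁻¹ = u ∨ g * u * g⁻¹ = u * C.d := by
  classical
  haveI : Fact (Nat.Prime 2) := ⟨Nat.prime_two⟩
  refine or_iff_not_imp_right.2 fun hno r1 hr1 hr1s => ?_
  by_contra hne
  push Not at hne
  obtain ⟨hr11, hr1d⟩ := hne
  have hTp : IsPGroup 2 (C.T : Subgroup K) := C.T.isPGroup'
  have hdT := C.d_central
  set d := C.d with hd
  -- a maximal abelian normal subgroup
  let F : Set (Subgroup K) := {X | X ≤ C.P ∧ (∀ a ∈ X, ∀ b ∈ X, a * b = b * a) ∧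
    ∀ g ∈ (C.T : Subgroup K), ∀ a ∈ X, g * a * g⁻¹ ∈ X}
  have hdn : zpowers d ∈ F := ⟨zpowers_le.2 C.d_mem, fun a ha b hb => by
    obtain ⟨i, rfl⟩ := mem_zpowers_iff.1 ha
    obtain ⟨j, rfl⟩ := mem_zpowers_iff.1 hb
    exact ((Commute.refl d).zpow_zpow i j).eq, fun g hg a ha => by
    obtain ⟨i, rfl⟩ := mem_zpowers_iff.1 ha
    rw [← conj_zpow, hdT g hg, mul_inv_cancel_right]
    exact zpow_mem (mem_zpowers _) _⟩
  obtain ⟨A0, hdA0', hA0⟩ := (Set.toFinite F).exists_le_maximal hdn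
  obtain ⟨hA0P, hA0c, hA0n⟩ := hA0.prop
  have hdA0 : d ∈ A0 := hdA0' (mem_zpowers d)
  haveI : (A0.subgroupOf (C.T : Subgroup K)).Normal := ⟨fun a ha g => hA0n g g.2 a ha⟩
  have hA0p : IsPGroup 2 A0 := hTp.to_le (hA0P.trans inf_le_right)
  -- only one involution in it
  have hA0z : ∀ a ∈ A0, a * a = 1 → a = 1 ∨ a = d := by
    by_contra hcon
    push Not at hcon
    obtain ⟨a, ha, ha2, ha1, had⟩ := hcon
    let W : Subgroup K :=
      { carrier := {b | b ∈ A0 ∧ b * b = 1}
        one_mem' := ⟨one_mem _, one_mul 1⟩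
        mul_mem' := fun {b c} hb hc => ⟨mul_mem hb.1 hc.1, by
          rw [(show Commute b c from hA0c b hb.1 c hc.1).symm.mul_mul_mul_comm, hb.2, hc.2, one_mul]⟩
        inv_mem' := fun {b} hb => ⟨inv_mem hb.1, by rw [← mul_inv_rev, hb.2, inv_one]⟩ }
    haveI : (W.subgroupOf (C.T : Subgroup K)).Normal := ⟨fun b hb g => ⟨hA0n g g.2 b hb.1, by
      show (g : K) * b * (g : K)⁻¹ * ((g : K) * b * (g : K)⁻¹) = 1
      rw [conj_mul, show (b : K) * b = 1 from hb.2, mul_one, mul_inv_cancel]⟩⟩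
    set d' : (C.T : Subgroup K) := ⟨d, C.d_mem.2⟩ with hd'
    haveI : (zpowers d' : Subgroup (C.T : Subgroup K)).Normal := ⟨fun b hb g => by
      obtain ⟨i, rfl⟩ := mem_zpowers_iff.1 hb
      have : g * d' * g⁻¹ = d' := Subtype.ext (mul_inv_eq_iff_eq_mul.2 (hdT g g.2))
      rw [← conj_zpow, this]
      exact zpow_mem (mem_zpowers _) i⟩
    have hd2 : ∀ i : ℤ, d ^ i = 1 ∨ d ^ i = d := fun i => by
      obtain ⟨j, rfl⟩ | ⟨j, rfl⟩ := Int.even_or_odd i
      · left; rw [zpow_add, ← (Commute.refl d).mul_zpow, C.d_sq, one_zpow]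
      · right; rw [zpow_add, zpow_one, zpow_mul, zpow_two, C.d_sq, one_zpow, one_mul]
    obtain ⟨r, hrW, hrz, -, hrc⟩ := H51.FourGroupRankOne.exists_central_step hTp (zpowers d')
      (W.subgroupOf (C.T : Subgroup K)) (fun h => by
        obtain ⟨i, hi⟩ := mem_zpowers_iff.1
          (h (show (⟨a, (hA0P ha).2⟩ : (C.T : Subgroup K)) ∈ W.subgroupOf _ from ⟨ha, ha2⟩))
        have hi' : d ^ i = a := by simpa [hd'] using congrArg Subtype.val hi
        rcases hd2 i with h' | h'
        · exact ha1 (hi'.symm.trans h')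
        · exact had (hi'.symm.trans h'))
    refine hno ⟨r, hA0P hrW.1, hrW.2, fun h => hrz ?_, fun h => hrz ?_, fun g hg => ?_⟩
    · rw [show r = 1 from Subtype.ext h]; exact one_mem _
    · rw [show r = d' from Subtype.ext h]; exact mem_zpowers _
    · obtain ⟨i, hi⟩ := mem_zpowers_iff.1 (hrc ⟨g, hg⟩)
      have hi' : d ^ i = g * r * g⁻¹ * (r : K)⁻¹ := by simpa [hd'] using congrArg Subtype.val hi
      rcases hd2 i with h' | h'
      · rw [h', eq_comm, mul_inv_eq_one] at hi'
        exact Or.inl hi'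
      · rw [h', eq_comm, mul_inv_eq_iff_eq_mul] at hi'
        exact Or.inr (hi'.trans (hdT (r : K) r.2).symm)
  obtain ⟨a, haA, hagen⟩ := H51.FourGroupRankOne.exists_generator_of_unique_involution hA0p hA0c hA0z
  -- it is its own centralizer in `P`
  have hself : ∀ s ∈ C.P, Commute s a → s ∈ A0 := by
    intro s hs hsc
    by_contra hsA
    set B := C.P ⊓ centralizer ({a} : Set K) with hB
    haveI : (B.subgroupOf (C.T : Subgroup K)).Normal := ⟨fun b hb g =>
      ⟨C.conj_mem g.2 hb.1, mem_centralizer_singleton_iff.2 (by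
        obtain ⟨i, hi⟩ := mem_zpowers_iff.1 (hagen _ (hA0n g⁻¹ (inv_mem g.2) a haA))
        have hba : Commute (b : K) ((g : K)⁻¹ * a * ((g : K)⁻¹)⁻¹) := by
          rw [← hi]
          exact (show Commute (b : K) a from mem_centralizer_singleton_iff.1 hb.2).zpow_right i
        calc (g : K) * b * (g : K)⁻¹ * a
            = (g : K) * ((b : K) * ((g : K)⁻¹ * a * ((g : K)⁻¹)⁻¹)) * (g : K)⁻¹ := by group
          _ = a * ((g : K) * b * (g : K)⁻¹) := by rw [hba.eq]; group)⟩⟩
    obtain ⟨x, hxB, hxA, hx2, hxc⟩ := H51.FourGroupRankOne.exists_central_step hTp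
      (A0.subgroupOf (C.T : Subgroup K)) (B.subgroupOf (C.T : Subgroup K))
      (fun h => hsA (h (show (⟨s, hs.2⟩ : (C.T : Subgroup K)) ∈ _ from
        ⟨hs, mem_centralizer_singleton_iff.2 hsc⟩)))
    have hxA0 : ∀ b ∈ A0, Commute (x : K) b := fun b hb => by
      obtain ⟨i, rfl⟩ := mem_zpowers_iff.1 (hagen b hb)
      exact (show Commute (x : K) a from mem_centralizer_singleton_iff.1 hxB.2).zpow_right i
    let X : Subgroup K := A0 ⊔ zpowers (x : K)
    have hXc : ∀ b ∈ X, ∀ c ∈ X, b * c = c * b := by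
      have hle : X ≤ centralizer ((A0 : Set K) ∪ {(x : K)}) := by
        refine sup_le (fun b hb => mem_centralizer_iff.2 ?_) (zpowers_le.2 (mem_centralizer_iff.2 ?_))
        · rintro c (hc | rfl)
          exacts [hA0c c hc b hb, (hxA0 b hb).eq]
        · rintro c (hc | rfl)
          exacts [(hxA0 c hc).eq.symm, rfl]
      have hle2 : X ≤ centralizer (X : Set K) := le_centralizer_iff.2 (sup_le
        (fun b hb => mem_centralizer_iff.2 fun c hc =>
          ((mem_centralizer_iff.1 (hle hc)) b (Or.inl hb)).symm)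
        (zpowers_le.2 (mem_centralizer_iff.2 fun c hc =>
          ((mem_centralizer_iff.1 (hle hc)) x (Or.inr rfl)).symm)))
      exact fun b hb c hc => (mem_centralizer_iff.1 (hle2 hc)) b hb
    have hXn : ∀ g ∈ (C.T : Subgroup K), ∀ b ∈ X, g * b * g⁻¹ ∈ X := by
      intro g hg b hb
      have hle : X ≤ X.comap (MulAut.conj g).toMonoidHom := by
        refine sup_le (fun c hc => ?_) (zpowers_le.2 ?_)
        · exact mem_sup_left (hA0n g hg c hc)
        · show g * x * g⁻¹ ∈ X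
          have := mul_mem (mem_sup_left (S := A0) (T := zpowers (x : K)) (hxc ⟨g, hg⟩))
            (mem_sup_right (mem_zpowers (x : K)))
          simpa using this
      exact hle hb
    exact hxA ((hA0.le_of_ge
      ⟨sup_le hA0P (zpowers_le.2 hxB.1), hXc, hXn⟩ le_sup_left) (mem_sup_right (mem_zpowers _)))
  have hzpow : ∀ b ∈ A0, ∃ i : ℤ, a ^ i = b := fun b hb => mem_zpowers_iff.1 (hagen b hb)
  have hr1A : r1 ∉ A0 := fun h => by rcases hA0z r1 h hr1s with h | h <;> contradiction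
  have ha2 : a * a ≠ 1 := fun h => by
    refine hr1A (hself r1 hr1 ?_)
    rcases hA0z a haA h with h' | h' <;> rw [h']
    exacts [Commute.one_right _, hdT r1 hr1.2]
  obtain ⟨e, he⟩ := IsPGroup.iff_orderOf.1 hA0p ⟨a, haA⟩
  rw [Subgroup.orderOf_mk] at he
  -- elements of order at least four have a power squaring to `d`
  have hfour : ∀ b ∈ A0, b * b ≠ 1 → ∃ n : ℕ, b ^ n * b ^ n = d := by
    intro b hb hbb
    obtain ⟨f, hf⟩ := IsPGroup.iff_orderOf.1 hA0p ⟨b, hb⟩
    rw [Subgroup.orderOf_mk] at hf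
    have hf2 : 2 ≤ f := by
      by_contra hlt
      apply hbb
      rw [← sq]
      exact orderOf_dvd_iff_pow_eq_one.1 (hf ▸ pow_dvd_pow 2 (by omega : f ≤ 1))
    refine ⟨2 ^ (f - 2), ?_⟩
    rw [← pow_add, ← two_mul, ← pow_succ', show f - 2 + 1 = f - 1 by omega]
    refine (hA0z _ (pow_mem hb _) ?_).resolve_left ?_
    · rw [← pow_add, ← two_mul, ← pow_succ', show f - 1 + 1 = f by omega, ← hf, pow_orderOf_eq_one]
    · exact pow_ne_one_of_lt_orderOf (by positivity)
        (hf ▸ Nat.pow_lt_pow_right (by norm_num) (by omega))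
  obtain ⟨n0, hn0⟩ := hfour a haA ha2
  set c0 := a ^ n0 with hc0def
  have hc0A : c0 ∈ A0 := pow_mem haA _
  have hc0P : c0 ∈ C.P := hA0P hc0A
  have hd1 := C.d_ne
  have hdd := C.d_sq
  have hc0inv : c0⁻¹ = c0 * d := inv_eq_of_mul_eq_one_right (by rw [← mul_assoc, hn0, hdd])
  have hroot : ∀ b ∈ A0, b * b = d → b = c0 ∨ b = c0⁻¹ := by
    intro b hb hbd
    have hc : Commute b c0⁻¹ := hA0c b hb _ (inv_mem hc0A)
    rcases hA0z (b * c0⁻¹) (mul_mem hb (inv_mem hc0A)) (by
      rw [hc.symm.mul_mul_mul_comm, hbd, ← mul_inv_rev, hn0, mul_inv_cancel]) with h | h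
    · exact Or.inl (mul_inv_eq_one.1 h)
    · right
      rw [mul_inv_eq_iff_eq_mul] at h
      rw [h, hc0inv, hdT c0 hc0P.2]
  -- an inverted element squares to one when `c0` is fixed
  have hinv2 : ∀ g : K, Commute g c0 → ∀ b ∈ A0, g * b * g⁻¹ = b⁻¹ → b * b = 1 := by
    intro g hg b hb hgb
    by_contra hbb
    obtain ⟨n, hn⟩ := hfour b hb hbb
    have hbn : Commute g (b ^ n) := by
      rcases hroot _ (pow_mem hb n) hn with h | h <;> rw [h]
      exacts [hg, hg.inv_right]
    have h1 : g * b ^ n * g⁻¹ = (b ^ n)⁻¹ := by rw [← conj_pow, hgb, inv_pow]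
    rw [hbn.eq, mul_inv_cancel_right] at h1
    refine hd1 (?_ : d = 1)
    rw [← hn]
    nth_rw 1 [h1]
    rw [inv_mul_cancel]
  have hpm : ∀ g ∈ (C.T : Subgroup K), g * c0 * g⁻¹ = c0 ∨ g * c0 * g⁻¹ = c0 * d := by
    intro g hg
    rcases hroot (g * c0 * g⁻¹) (hA0n g hg c0 hc0A) (by
      rw [conj_mul, hn0, hdT g hg, mul_inv_cancel_right]) with h | h
    · exact Or.inl h
    · exact Or.inr (h.trans hc0inv)
  have hd_pow : ∀ i : ℤ, d ^ i = 1 ∨ d ^ i = d := fun i => by
    obtain ⟨j, rfl⟩ | ⟨j, rfl⟩ := Int.even_or_odd i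
    · left; rw [zpow_add, ← (Commute.refl d).mul_zpow, hdd, one_zpow]
    · right; rw [zpow_add, zpow_one, zpow_mul, zpow_two, hdd, one_zpow, one_mul]
  -- only `A0` centralises `c0`
  have hkey : ∀ y ∈ C.P, Commute y c0 → y ∈ A0 := by
    intro y hy hyc
    by_contra hyA
    obtain ⟨k, hk⟩ := hTp ⟨y, hy.2⟩
    have hk' : y ^ 2 ^ k = 1 := congrArg Subtype.val hk
    have : ∃ j, y ^ 2 ^ j ∈ A0 := ⟨k, hk' ▸ one_mem _⟩
    obtain ⟨z, hzP, hzA, hzz, hzc⟩ : ∃ z ∈ C.P, z ∉ A0 ∧ z * z ∈ A0 ∧ Commute z c0 := by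
      cases hj : Nat.find this with
      | zero => exact absurd (by simpa [hj] using Nat.find_spec this) hyA
      | succ j =>
        refine ⟨y ^ 2 ^ j, pow_mem hy _, Nat.find_min this (by omega), ?_, hyc.pow_left _⟩
        have := Nat.find_spec this
        rwa [hj, pow_succ, pow_mul, sq] at this
    set δ := z * a * z⁻¹ * a⁻¹ with hδ
    have hδA : δ ∈ A0 := mul_mem (hA0n z hzP.2 a haA) (inv_mem haA)
    have hzzc : ∀ b ∈ A0, z * z * b * (z * z)⁻¹ = b := fun b hb => by
      rw [hA0c _ hzz b hb, mul_inv_cancel_right]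
    have hδinv : z * δ * z⁻¹ = δ⁻¹ := by
      have h1 : z * δ * z⁻¹ * δ = 1 := by
        calc z * δ * z⁻¹ * δ = (z * z * a * (z * z)⁻¹) * a⁻¹ := by rw [hδ]; group
          _ = 1 := by rw [hzzc a haA, mul_inv_cancel]
      exact eq_inv_of_mul_eq_one_left h1
    have hδd : δ = d := by
      refine (hA0z δ hδA (hinv2 z hzc δ hδA hδinv)).resolve_left fun h => hzA (hself z hzP ?_)
      rw [hδ, mul_inv_eq_one, mul_inv_eq_iff_eq_mul] at h
      exact h
    have hza : ∀ i : ℤ, z * a ^ i * z⁻¹ = a ^ i * d ^ i := fun i => by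
      have h1 : z * a * z⁻¹ = a * d := by
        rw [← hδd, hδ]
        rw [← hA0c _ hδA a haA, hδ, inv_mul_cancel_right]
      rw [← conj_zpow, h1, (show Commute a d from hA0c a haA d hdA0).mul_zpow]
    -- the square of `z`
    obtain ⟨m, hm⟩ := hzpow _ hzz
    have hm2 : ∃ l : ℤ, m = l + l := by
      obtain ⟨l, hl⟩ | ⟨l, hl⟩ := Int.even_or_odd m
      · exact ⟨l, hl⟩
      · exfalso
        have h1 := hza m
        rw [hm, show z * (z * z) * z⁻¹ = z * z by group, left_eq_mul, hl, zpow_add, zpow_one,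
          zpow_mul, zpow_two, hdd, one_zpow, one_mul] at h1
        exact hd1 h1
    obtain ⟨l, rfl⟩ := hm2
    have hzl : z * a ^ (-l) * (z * a ^ (-l)) = d ^ (-l) := by
      calc z * a ^ (-l) * (z * a ^ (-l)) = (z * a ^ (-l) * z⁻¹) * (z * z) * a ^ (-l) := by group
        _ = a ^ (-l) * d ^ (-l) * a ^ (l + l) * a ^ (-l) := by rw [hza, hm]
        _ = d ^ (-l) := by
          rw [((show Commute a d from hA0c a haA d hdA0).zpow_zpow (-l) (-l)).eq]; group
    -- an involution outside `A0`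
    obtain ⟨u, huA, huP, huu, hua⟩ : ∃ u, u ∉ A0 ∧ u ∈ C.P ∧ u * u = 1 ∧ u * a * u⁻¹ = a * d := by
      have hout : ∀ b ∈ A0, z * b ∉ A0 := fun b hb h => hzA (by
        simpa using mul_mem h (inv_mem hb))
      have hact : ∀ b ∈ A0, z * b * a * (z * b)⁻¹ = a * d := fun b hb => by
        rw [mul_assoc z b a, hA0c b hb a haA]
        have := hza 1
        simp only [zpow_one] at this
        rw [← this]; group
      rcases hd_pow (-l) with h | h
      · exact ⟨_, hout _ (zpow_mem haA _), mul_mem hzP (hA0P (zpow_mem haA _)), hzl.trans h,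
          hact _ (zpow_mem haA _)⟩
      · refine ⟨z * (a ^ (-l) * c0), hout _ (mul_mem (zpow_mem haA _) hc0A),
          mul_mem hzP (hA0P (mul_mem (zpow_mem haA _) hc0A)), ?_,
          hact _ (mul_mem (zpow_mem haA _) hc0A)⟩
        have hcc : Commute c0 (z * a ^ (-l)) :=
          hzc.symm.mul_right (hA0c c0 hc0A _ (zpow_mem haA _))
        rw [← mul_assoc z, hcc.mul_mul_mul_comm, hzl, h, hn0, hdd]
    refine hno ⟨u, huP, huu, fun h => huA (h ▸ one_mem _), fun h => huA (h ▸ hdA0), fun g hg => ?_⟩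
    obtain ⟨k', hk'a⟩ := hzpow _ (hA0n g⁻¹ (inv_mem hg) a haA)
    rw [inv_inv] at hk'a
    have huk : u * a ^ k' * u⁻¹ = a ^ k' * d ^ k' := by
      rw [← conj_zpow, hua, (show Commute a d from hA0c a haA d hdA0).mul_zpow]
    have hdk : d ^ k' = d := by
      refine (hd_pow k').resolve_left fun h => huA (hself u huP ?_)
      rw [h, mul_one, mul_inv_eq_iff_eq_mul] at huk
      obtain ⟨i, hi⟩ := hzpow _ (hA0n g hg a haA)
      have ha' : a = (a ^ k') ^ i := by
        rw [hk'a]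
        calc a = g⁻¹ * (g * a * g⁻¹) * g := by group
          _ = g⁻¹ * a ^ i * (g⁻¹)⁻¹ := by rw [hi, inv_inv]
          _ = (g⁻¹ * a * g) ^ i := by rw [← conj_zpow, inv_inv]
      rw [ha']
      exact Commute.zpow_right huk i
    set u' := g * u * g⁻¹ with hu'
    have hu'a : u' * a * u'⁻¹ = a * d := by
      calc u' * a * u'⁻¹ = g * (u * (g⁻¹ * a * g) * u⁻¹) * g⁻¹ := by rw [hu']; group
        _ = g * (a ^ k' * d) * g⁻¹ := by rw [← hk'a, huk, hdk]
        _ = (g * (g⁻¹ * a * g) * g⁻¹) * (g * d * g⁻¹) := by rw [hk'a]; group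
        _ = a * d := by rw [hdT g hg, mul_inv_cancel_right]; group
    have hu'P : u' ∈ C.P := C.conj_mem hg huP
    have hu'2 : u' * u' = 1 := by rw [hu', conj_mul, huu, mul_one, mul_inv_cancel]
    have huinv : u⁻¹ = u := inv_eq_of_mul_eq_one_right huu
    have hεA : u' * u ∈ A0 := by
      refine hself _ (mul_mem hu'P huP) (mul_inv_eq_iff_eq_mul.1 ?_)
      calc u' * u * a * (u' * u)⁻¹ = u' * (u * a * u⁻¹) * u'⁻¹ := by group
        _ = (u' * a * u'⁻¹) * (u' * d * u'⁻¹) := by rw [hua]; group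
        _ = a := by rw [hu'a, hdT u' hu'P.2, mul_inv_cancel_right, mul_assoc, hdd, mul_one]
    obtain ⟨i, hi⟩ := hzpow _ hεA
    have hεeq : u' = a ^ i * u := by rw [hi, mul_assoc, huu, mul_one]
    have h2 : a ^ i * (a ^ i * d ^ i) = 1 := by
      rw [← hu'2, hεeq]
      calc a ^ i * (a ^ i * d ^ i) = a ^ i * (u * a ^ i * u⁻¹) := by
            rw [← conj_zpow, hua, (show Commute a d from hA0c a haA d hdA0).mul_zpow]
        _ = _ := by rw [huinv]; simp only [mul_assoc]
    have hεd : a ^ i = 1 ∨ a ^ i = d := by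
      refine hA0z _ (zpow_mem haA _) ?_
      rcases hd_pow i with h | h <;> rw [h] at h2
      · rwa [mul_one] at h2
      · exfalso
        have hid : a ^ i * a ^ i = d := by
          rw [← mul_assoc] at h2
          rw [eq_inv_of_mul_eq_one_left h2, C.d_inv]
        have hfix : u * a ^ i * u⁻¹ = a ^ i := by
          have hu0 : u * c0 * u⁻¹ = c0 := by
            rcases hpm u huP.2 with h' | h'
            · exact h'
            · exfalso
              rw [hc0def, ← conj_pow, hua, (show Commute a d from hA0c a haA d hdA0).mul_pow] at h'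
              have hdn : d ^ n0 = d := mul_left_cancel h'
              have hzc0 := hza n0
              rw [zpow_natCast, zpow_natCast, ← hc0def, hdn, hzc.eq, mul_inv_cancel_right,
                left_eq_mul] at hzc0
              exact hd1 hzc0
          rcases hroot _ (zpow_mem haA i) hid with h' | h' <;> rw [h']
          · exact hu0
          · rw [← conj_inv, hu0]
        rw [← conj_zpow, hua, (show Commute a d from hA0c a haA d hdA0).mul_zpow, h,
          mul_eq_left] at hfix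
        exact hd1 hfix
    rcases hεd with h | h <;> rw [h] at hεeq
    · exact Or.inl (hεeq.trans (one_mul u))
    · exact Or.inr (hεeq.trans (hdT u huP.2).symm)
  -- outside elements invert `c0`
  have hout : ∀ y ∈ C.P, y ∉ A0 → y * c0 * y⁻¹ = c0 * d := fun y hy hyA =>
    (hpm y hy.2).resolve_left fun h => hyA (hkey y hy (mul_inv_eq_iff_eq_mul.1 h))
  have hidx : ∀ y ∈ C.P, ∀ y' ∈ C.P, y ∉ A0 → y' ∉ A0 → y⁻¹ * y' ∈ A0 := by
    intro y hy y' hy' hyA hy'A
    refine hkey _ (mul_mem (inv_mem hy) hy') (mul_inv_eq_iff_eq_mul.1 ?_)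
    calc y⁻¹ * y' * c0 * (y⁻¹ * y')⁻¹ = y⁻¹ * (y' * c0 * y'⁻¹) * y := by group
      _ = y⁻¹ * (y * c0 * y⁻¹) * y := by rw [hout y hy hyA, hout y' hy' hy'A]
      _ = c0 := by group
  have hsqA : ∀ p ∈ C.P, p * p ∈ A0 := fun p hp => by
    by_cases h : p ∈ A0
    · exact mul_mem h h
    · simpa using hidx p⁻¹ (inv_mem hp) p hp (fun h' => h (inv_inv p ▸ inv_mem h')) h
  set x := r1 with hx
  have hxinv : x⁻¹ = x := inv_eq_of_mul_eq_one_right hr1s
  have hxcov : ∀ p ∈ C.P, p ∈ A0 ∨ x⁻¹ * p ∈ A0 := fun p hp => by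
    by_cases h : p ∈ A0
    · exact Or.inl h
    · exact Or.inr (hidx x hr1 p hp hr1A h)
  have hxc0 : x * c0 * x = c0 * d := by
    have := hout x hr1 hr1A
    rwa [hxinv] at this
  -- the end: an involution of `T` outside `A`, conjugate to `t`, centralising `c0`
  have hfinal : ∀ g : K, g * C.t * g⁻¹ ∈ (C.T : Subgroup K) → Commute (g * C.t * g⁻¹) c0 → False := by
    intro g hgT hgc
    set s := g * C.t * g⁻¹ with hs
    have hss : s * s = 1 := by rw [hs, conj_mul, C.t_sq, mul_one, mul_inv_cancel]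
    have hsinv : s⁻¹ = s := inv_eq_of_mul_eq_one_right hss
    set b := x * (s * x * s⁻¹) with hb
    have hsx : s * x * s⁻¹ ∈ C.P := C.conj_mem hgT hr1
    have hbA : b ∈ A0 := by
      have := hidx x hr1 _ hsx hr1A (fun h => hr1A (by
        have := hA0n s hgT _ h
        rwa [show s * (s * x * s⁻¹) * s⁻¹ = x by
          rw [hsinv]; simp only [mul_assoc, hss, mul_one]; rw [← mul_assoc, hss, one_mul]] at this))
      rwa [hxinv] at this
    have hsb : s * b * s⁻¹ = b⁻¹ := by
      have h1 : s * x * s * (s * x * s) = 1 := by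
        calc s * x * s * (s * x * s) = s * x * (s * s) * x * s := by group
          _ = 1 := by rw [hss, mul_one, mul_assoc s x x, hr1s, mul_one, hss]
      rw [hb, hsinv]
      apply eq_inv_of_mul_eq_one_left
      calc s * (x * (s * x * s)) * s * (x * (s * x * s))
          = s * x * s * x * ((s * s) * x * (s * x * s)) := by group
        _ = 1 := by rw [hss, one_mul]; simp only [mul_assoc] at h1 ⊢; rw [← mul_assoc x x, hr1s, one_mul]; exact h1
    have hbd : b = d := by
      refine (hA0z b hbA (hinv2 s hgc b hbA hsb)).resolve_left fun h => ?_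
      -- `s` would centralise `x`
      have hsx' : s * x * s⁻¹ = x := by
        rw [hb] at h
        rw [eq_inv_of_mul_eq_one_right h, hxinv]
      have hct : ∀ w : K, Commute s w → Commute C.t (g⁻¹ * w * g) := fun w hw => by
        show C.t * (g⁻¹ * w * g) = g⁻¹ * w * g * C.t
        calc C.t * (g⁻¹ * w * g) = g⁻¹ * (s * w) * g := by rw [hs]; group
          _ = g⁻¹ * (w * s) * g := by rw [hw.eq]
          _ = g⁻¹ * w * g * C.t := by rw [hs]; group
      have hmem : ∀ w ∈ C.P, g⁻¹ * w * g ∈ A := fun w hw => by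
        have := C.normal.conj_mem w hw.1 g⁻¹
        rwa [inv_inv] at this
      have h' := C.one_inv _ (hmem x hr1) _ (hmem d C.d_mem)
        (by rw [show g⁻¹ * x * g * (g⁻¹ * x * g) = g⁻¹ * (x * x) * g by group, hr1s, mul_one,
          inv_mul_cancel])
        (by rw [show g⁻¹ * d * g * (g⁻¹ * d * g) = g⁻¹ * (d * d) * g by group, hdd, mul_one,
          inv_mul_cancel])
        (fun h => hr11 (by
          calc x = g * (g⁻¹ * x * g) * g⁻¹ := by group
            _ = 1 := by rw [h, mul_one, mul_inv_cancel]))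
        (fun h => hd1 (by
          calc d = g * (g⁻¹ * d * g) * g⁻¹ := by group
            _ = 1 := by rw [h, mul_one, mul_inv_cancel]))
        (show g⁻¹ * x * g * (g⁻¹ * d * g) = g⁻¹ * d * g * (g⁻¹ * x * g) by
          calc g⁻¹ * x * g * (g⁻¹ * d * g) = g⁻¹ * (x * d) * g := by group
            _ = g⁻¹ * (d * x) * g := by rw [hdT x hr1.2]
            _ = _ := by group)
        (hct x (mul_inv_eq_iff_eq_mul.1 hsx')) (hct d (hdT s hgT))
      exact hr1d (mul_left_cancel (mul_right_cancel h'))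
    -- `s c0` centralises `x`
    have hsxd : s * x * s⁻¹ = x * d := by
      rw [← hbd, hb, ← mul_assoc, hr1s, one_mul]
    have hc0x : c0 * x * c0⁻¹ = x * d := by
      calc c0 * x * c0⁻¹ = c0 * (x * c0 * x)⁻¹ * x := by
            rw [mul_inv_rev, mul_inv_rev, hxinv]; simp only [mul_assoc, hr1s, mul_one]
        _ = c0 * (c0⁻¹ * d) * x := by
            rw [hxc0, mul_inv_rev, C.d_inv, hdT _ (inv_mem hc0P.2)]
        _ = x * d := by rw [mul_inv_cancel_left, hdT x hr1.2]
    have hscx : Commute (s * c0) x := by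
      refine mul_inv_eq_iff_eq_mul.1 ?_
      calc s * c0 * x * (s * c0)⁻¹ = (s * x * s⁻¹) * (s * d * s⁻¹) := by
            rw [show s * c0 * x * (s * c0)⁻¹ = s * (c0 * x * c0⁻¹) * s⁻¹ by group, hc0x]; group
        _ = x := by rw [hsxd, hdT s hgT, mul_inv_cancel_right, mul_assoc, hdd, mul_one]
    have hscd : s * c0 * (s * c0) = d := by
      rw [hgc.symm.mul_mul_mul_comm, hss, one_mul, hn0]
    -- squares in `T`
    have hsq : ∀ z ∈ (C.T : Subgroup K), z * z * (z * z) = 1 → z * z = 1 ∨ z * z = d := by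
      intro z hz h4
      refine hA0z _ ?_ h4
      rcases C.gen z with h | h
      · exact hsqA z ⟨h, hz⟩
      · have hs' : C.t * s ∈ A := (C.gen s).resolve_left fun hsA => C.t_notMem (by
          have := C.normal.conj_mem s hsA g⁻¹
          rwa [hs, show g⁻¹ * (g * C.t * g⁻¹) * (g⁻¹)⁻¹ = C.t by group] at this)
        have hpA : s * z ∈ A := by
          have h5 := mul_mem (inv_mem hs') h
          rw [mul_inv_rev, hsinv, C.t_inv] at h5
          rwa [mul_assoc s, ← mul_assoc C.t, C.t_sq, one_mul] at h5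
        set p := s * z with hp
        have hpP : p ∈ C.P := ⟨hpA, mul_mem hgT hz⟩
        have hz' : z = s * p := by rw [hp, ← mul_assoc, hss, one_mul]
        rw [hz', show s * p * (s * p) = (s * p * s) * p by group]
        have hsp : s * p * s ∈ C.P := by
          have := C.conj_mem hgT hpP
          rwa [hsinv] at this
        by_cases hpA0 : p ∈ A0
        · refine mul_mem ?_ hpA0
          have := hA0n s hgT p hpA0
          rwa [hsinv] at this
        · have hsp' : (s * p * s)⁻¹ ∉ A0 := fun h' => hpA0 (by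
            have := hA0n s hgT _ (inv_mem h')
            rw [inv_inv, hsinv] at this
            rwa [show s * (s * p * s) * s = (s * s) * p * (s * s) by group, hss, one_mul, mul_one] at this)
          simpa using hidx _ (inv_mem hsp) p hpP hsp' hpA0
    obtain ⟨a', ha'A, ha'⟩ := C.conj_mem_of_index_two A0 hA0P hr1 hr1A hxcov hr1.1
      (by rw [show (8 : ℕ) = 2 * 4 from rfl, pow_mul, sq, hr1s, one_pow])
      (fun a _ _ => by rw [hr1s, mul_one, mul_inv_cancel]; exact one_mem _)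
      (fun a _ _ => by rw [hr1s, mul_one, mul_one, mul_inv_cancel]; exact one_mem _)
    have ha'd : a' * x * a'⁻¹ = d := by
      refine (hA0z _ ha' (by rw [conj_mul, hr1s, mul_one, mul_inv_cancel])).resolve_left fun h => ?_
      exact hr11 (conj_eq_one_iff.1 h)
    exact hr1d (eq_of_conj_of_square C.T hdT hd1 hdd hsq (mul_mem hgT hc0P.2) hscx hscd ha'd)
  by_cases htc : Commute C.t c0
  · exact hfinal 1 (by rw [one_mul, inv_one, mul_one]; exact C.t_mem) (by
      rw [one_mul, inv_one, mul_one]; exact htc)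
  -- `c` lies outside `A0`
  have hcA : C.c ∉ A0 := fun h => htc (by
    rcases hroot C.c h rfl with h' | h'
    · exact h' ▸ C.t_c
    · have := C.t_c.inv_right; rwa [h', inv_inv] at this)
  set δ := x * a * x * a with hδ
  have hxax : x * a * x ∈ A0 := by
    have := hA0n x hr1.2 a haA; rwa [hxinv] at this
  have hδA : δ ∈ A0 := mul_mem hxax haA
  have hxδ : x * δ * x = δ := by
    calc x * δ * x = (x * x) * a * (x * a * x) := by rw [hδ]; group
      _ = δ := by rw [hr1s, one_mul, hA0c a haA _ hxax, hδ]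
  have hδ2 : δ * δ = 1 := by
    by_contra hne
    obtain ⟨n, hn⟩ := hfour δ hδA hne
    have hfix : x * δ ^ n * x⁻¹ = δ ^ n := by rw [← conj_pow, hxinv, hxδ]
    apply hd1
    rcases hroot _ (pow_mem hδA n) hn with h | h <;> rw [h] at hfix
    · rw [hxinv, hxc0, mul_eq_left] at hfix; exact hfix
    · rw [← conj_inv, inv_inj, hxinv, hxc0, mul_eq_left] at hfix; exact hfix
  have hxe : ∀ i : ℤ, x * a ^ i * (x * a ^ i) = δ ^ i := fun i => by
    have hc : Commute (x * a * x) a := hA0c _ hxax a haA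
    calc x * a ^ i * (x * a ^ i) = (x * a ^ i * x⁻¹) * a ^ i := by rw [hxinv]; group
      _ = δ ^ i := by rw [← conj_zpow, hxinv, ← hc.mul_zpow, hδ]
  obtain ⟨ic, hic⟩ := hzpow _ ((hxcov C.c C.c_mem).resolve_left hcA)
  have hcx : C.c = x * a ^ ic := by rw [hic, mul_inv_cancel_left]
  have hδd : δ = d := (hA0z δ hδA hδ2).resolve_left fun h => by
    apply C.c_ne
    rw [hcx, hxe, h, one_zpow]
  have hxa : ∀ i : ℤ, x * a ^ i * x = a ^ (-i) * d ^ i := fun i => by
    have h1 := hxe i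
    rw [hδd] at h1
    have h2 : x * a ^ i * x = d ^ i * a ^ (-i) := by rw [← h1]; group
    rw [h2]
    exact ((show Commute d a from hA0c d hdA0 a haA).zpow_zpow i (-i)).eq
  have hd_even : ∀ i : ℤ, d ^ (2 * i) = 1 := fun i => by rw [zpow_mul, zpow_two, hdd, one_zpow]
  let M : Subgroup K :=
    { carrier := {p | ∃ i : ℤ, p = a ^ (2 * i) ∨ p = x * a ^ (2 * i)}
      one_mem' := ⟨0, Or.inl (by simp)⟩
      mul_mem' := by
        rintro p q ⟨i, rfl | rfl⟩ ⟨j, rfl | rfl⟩
        · exact ⟨i + j, Or.inl (by rw [← zpow_add, mul_add])⟩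
        · refine ⟨-i + j, Or.inr ?_⟩
          calc a ^ (2 * i) * (x * a ^ (2 * j)) = (x * x) * (a ^ (2 * i) * x * a ^ (2 * j)) := by
                rw [hr1s]; group
            _ = x * ((x * a ^ (2 * i) * x) * a ^ (2 * j)) := by group
            _ = x * a ^ (2 * (-i + j)) := by rw [hxa, hd_even, mul_one, ← zpow_add]; ring_nf
        · exact ⟨i + j, Or.inr (by rw [mul_assoc, ← zpow_add, mul_add])⟩
        · refine ⟨-i + j, Or.inl ?_⟩
          calc x * a ^ (2 * i) * (x * a ^ (2 * j)) = (x * a ^ (2 * i) * x) * a ^ (2 * j) := by group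
            _ = a ^ (2 * (-i + j)) := by rw [hxa, hd_even, mul_one, ← zpow_add]; ring_nf
      inv_mem' := by
        rintro p ⟨i, rfl | rfl⟩
        · exact ⟨-i, Or.inl (by rw [← zpow_neg]; ring_nf)⟩
        · refine ⟨i, Or.inr (inv_eq_of_mul_eq_one_right ?_)⟩
          rw [hxe, hδd, hd_even] }
  have hMP : M ≤ C.P := by
    rintro p ⟨i, rfl | rfl⟩
    exacts [hA0P (zpow_mem haA _), mul_mem hr1 (hA0P (zpow_mem haA _))]
  have hdM : d ∈ M := ⟨n0, Or.inl (by rw [← hn0, two_mul, zpow_add, zpow_natCast])⟩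
  have hinvM : ∀ p ∈ C.P, p * p = 1 → p ∈ M := by
    intro p hp h2
    rcases hxcov p hp with h | h
    · rcases hA0z p h h2 with rfl | rfl
      exacts [one_mem _, hdM]
    · obtain ⟨i, hi⟩ := hzpow _ h
      have hp' : p = x * a ^ i := by rw [hi, mul_inv_cancel_left]
      rw [hp', hxe, hδd] at h2
      obtain ⟨l, hl⟩ | ⟨l, hl⟩ := Int.even_or_odd i
      · exact ⟨l, Or.inr (by rw [hp', hl, two_mul])⟩
      · rw [hl, zpow_add, hd_even, zpow_one, one_mul] at h2
        exact absurd h2 hd1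
  have hcM : C.c ∉ M := fun ⟨i, h⟩ => h.elim (fun h => hcA (h ▸ zpow_mem haA _))
    (fun h => C.c_ne (by rw [h, hxe, hδd, hd_even]))
  have haM : a ∉ M := by
    rintro ⟨i, h | h⟩
    · have h1 : a ^ (2 * i - 1) = 1 := by rw [zpow_sub, zpow_one, ← h, mul_inv_cancel]
      rw [← orderOf_dvd_iff_zpow_eq_one, he] at h1
      push_cast at h1
      rcases Nat.eq_zero_or_pos e with rfl | hep
      · exact ha2 (by rw [show a = 1 from orderOf_eq_one_iff.1 (by simpa using he), one_mul])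
      · have h2 : (2 : ℤ) ∣ 2 * i - 1 := (dvd_pow_self 2 hep.ne').trans h1
        omega
    · refine hr1A ?_
      rw [show x = a * (a ^ (2 * i))⁻¹ by
        nth_rw 1 [h]; rw [mul_inv_cancel_right]]
      exact mul_mem haA (inv_mem (zpow_mem haA _))
  have hMcov : ∀ p ∈ C.P, p ∈ M ∨ a⁻¹ * p ∈ M := by
    intro p hp
    rcases hxcov p hp with h | h <;> obtain ⟨i, hi⟩ := hzpow _ h
    · obtain ⟨l, hl⟩ | ⟨l, hl⟩ := Int.even_or_odd i
      · exact Or.inl ⟨l, Or.inl (by rw [← hi, hl, two_mul])⟩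
      · exact Or.inr ⟨l, Or.inl (by rw [← hi, hl]; group)⟩
    · have hp' : p = x * a ^ i := by rw [hi, mul_inv_cancel_left]
      obtain ⟨l, hl⟩ | ⟨l, hl⟩ := Int.even_or_odd i
      · exact Or.inl ⟨l, Or.inr (by rw [hp', hl, two_mul])⟩
      · refine Or.inr ⟨(n0 : ℤ) + l + 1, Or.inr ?_⟩
        calc a⁻¹ * p = (x * x) * (a⁻¹ * x * a ^ i) := by rw [hp', hr1s]; group
          _ = x * ((x * a ^ (-1 : ℤ) * x) * a ^ i) := by rw [zpow_neg_one]; group
          _ = x * (a * (a ^ (n0 : ℤ) * a ^ (n0 : ℤ)) * a ^ (2 * l + 1)) := by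
              rw [hxa, neg_neg, zpow_one, zpow_neg_one, C.d_inv, zpow_natCast, hn0, hl]
          _ = x * a ^ (2 * ((n0 : ℤ) + l + 1)) := by group
  obtain ⟨a', ha'A, ha'⟩ := C.conj_mem_of_index_two M hMP (hA0P haA) haM hMcov C.c_mem.1
    (by
      have : C.c ^ 8 = C.c * C.c * (C.c * C.c) * (C.c * C.c * (C.c * C.c)) := by
        simp only [pow_succ, pow_zero, one_mul, mul_assoc]
      rw [this, C.c_four, one_mul])
    (fun g _ hgP => hinvM _ hgP (by rw [conj_mul, C.c_four, mul_one, mul_inv_cancel]))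
    (fun g _ _ => by rw [C.c_four, mul_one, mul_inv_cancel]; exact one_mem _)
  set t1 := a' * C.t * a'⁻¹ with ht1
  have ht1c : Commute t1 c0 := by
    set w := a' * C.c * a'⁻¹ with hw
    have htw : Commute t1 w := by
      show t1 * w = w * t1
      rw [ht1, hw, conj_mul, conj_mul, C.t_c.eq]
    obtain ⟨i, h | h⟩ := ha'
    · have hw2 : w * w = d := by
        refine (hA0z _ (mul_mem (h ▸ zpow_mem haA _) (h ▸ zpow_mem haA _)) ?_).resolve_left ?_
        · rw [hw, conj_mul, conj_mul, C.c_four, mul_one, mul_inv_cancel]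
        · rw [hw, conj_mul, conj_eq_one_iff]; exact C.c_ne
      rcases hroot w (h ▸ zpow_mem haA _) hw2 with h' | h'
      · exact h' ▸ htw
      · have := htw.inv_right; rwa [h', inv_inv] at this
    · exfalso
      apply C.c_ne
      have h1 := hxe (2 * i)
      rw [← h, hδd, hd_even, conj_mul, conj_eq_one_iff] at h1
      exact h1
  -- move `t1` into the centralizer of `c0` in `T`
  set H := centralizer ({c0} : Set K) with hH
  have hQp : IsPGroup 2 ((C.T : Subgroup K).subgroupOf H) := C.T.isPGroup'.comap_subtype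
  obtain ⟨SH, hSH⟩ := hQp.exists_le_sylow
  have hSHK : IsPGroup 2 ((SH : Subgroup H).map H.subtype) := SH.isPGroup'.map _
  obtain ⟨T2, hT2⟩ := hSHK.exists_le_sylow
  obtain ⟨q, hqT, hqc⟩ : ∃ q, q ∈ (C.T : Subgroup K) ∧ q * c0 * q⁻¹ = c0 * d := ⟨x, hr1.2, hout x hr1 hr1A⟩
  set Q := (C.T : Subgroup K) ⊓ H with hQ
  have hQidx : Q.relIndex (C.T : Subgroup K) = 2 := relIndex_eq_two _ _ inf_le_left hqT
    (fun h => hd1 (by
      have := mul_inv_eq_iff_eq_mul.2 (mem_centralizer_singleton_iff.1 h.2)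
      rw [hqc, mul_eq_left] at this
      exact this))
    (fun z hz => by
      rcases hpm z hz with h | h
      · exact Or.inl ⟨hz, mem_centralizer_singleton_iff.2 (mul_inv_eq_iff_eq_mul.1 h)⟩
      · refine Or.inr ⟨(C.T : Subgroup K).mul_mem ((C.T : Subgroup K).inv_mem hqT) hz, mem_centralizer_singleton_iff.2
          (mul_inv_eq_iff_eq_mul.1 ?_)⟩
        calc q⁻¹ * z * c0 * (q⁻¹ * z)⁻¹ = q⁻¹ * (z * c0 * z⁻¹) * q := by group
          _ = q⁻¹ * (q * c0 * q⁻¹) * q := by rw [h, hqc]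
          _ = c0 := by group)
  have hle1 : Q ≤ (SH : Subgroup H).map H.subtype := fun z hz =>
    ⟨⟨z, hz.2⟩, hSH hz.1, rfl⟩
  have hcardQ : 2 * Nat.card Q = Nat.card (C.T : Subgroup K) := by
    have h1 := (Q.subgroupOf (C.T : Subgroup K)).card_mul_index
    rw [Nat.card_congr (subgroupOfEquivOfLe (inf_le_left : Q ≤ _)).toEquiv, ← Subgroup.relIndex,
      hQidx] at h1
    show 2 * Nat.card ↥((C.T : Subgroup K) ⊓ H) = _
    omega
  have hSHlt : (SH : Subgroup H).map H.subtype ≠ (T2 : Subgroup K) := by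
    intro heq
    obtain ⟨g, hg⟩ := MulAction.exists_smul_eq K T2 C.T
    have hmemT : ∀ w ∈ (T2 : Subgroup K), g * w * g⁻¹ ∈ (C.T : Subgroup K) := fun w hw => by
      rw [← hg, Sylow.coe_subgroup_smul]
      exact ⟨w, hw, rfl⟩
    set w := g * c0 * g⁻¹ with hw
    have hwP : w ∈ C.P := ⟨C.normal.conj_mem c0 hc0P.1 g,
      hmemT _ (hT2 (hle1 ⟨hc0P.2, mem_centralizer_singleton_iff.2 rfl⟩))⟩
    have hcen : ∀ z ∈ (C.T : Subgroup K), Commute z w := by
      intro z hz
      have hz' : g⁻¹ * z * g ∈ (T2 : Subgroup K) := by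
        rw [← hg, Sylow.coe_subgroup_smul] at hz
        obtain ⟨v, hv, rfl⟩ := hz
        simpa [mul_assoc] using (SetLike.mem_coe.1 hv)
      rw [← heq] at hz'
      obtain ⟨v, -, hv⟩ := hz'
      have hvc : Commute (g⁻¹ * z * g) c0 := by
        rw [← hv]; exact mem_centralizer_singleton_iff.1 v.2
      show z * w = w * z
      calc z * w = g * ((g⁻¹ * z * g) * c0) * g⁻¹ := by rw [hw]; group
        _ = g * (c0 * (g⁻¹ * z * g)) * g⁻¹ := by rw [hvc.eq]
        _ = w * z := by rw [hw]; group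
    have hwA : w ∈ A0 := hkey w hwP (hcen c0 hc0P.2).symm
    have hwd : w * w = d := by
      refine (hA0z _ (mul_mem hwA hwA) ?_).resolve_left ?_
      · rw [hw, conj_mul, conj_mul, hn0, hdd, mul_one, mul_inv_cancel]
      · rw [hw, conj_mul, conj_eq_one_iff, hn0]; exact hd1
    have hxc : Commute x c0 := by
      rcases hroot w hwA hwd with h | h
      · exact h ▸ hcen x hr1.2
      · have := (hcen x hr1.2).inv_right; rwa [h, inv_inv] at this
    exact hr1A (hkey x hr1 hxc)
  have hSHeq : (SH : Subgroup H).map H.subtype = Q := by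
    refine (Subgroup.eq_of_le_of_card_ge hle1 ?_).symm
    have hdvd1 := Subgroup.card_dvd_of_le hle1
    have hdvd2 := Subgroup.card_dvd_of_le hT2
    have hlt : Nat.card ((SH : Subgroup H).map H.subtype) < Nat.card (T2 : Subgroup K) :=
      lt_of_le_of_ne (Subgroup.card_le_of_le hT2) fun h =>
        hSHlt (Subgroup.eq_of_le_of_card_ge hT2 h.ge)
    rw [show Nat.card (T2 : Subgroup K) = Nat.card (C.T : Subgroup K) from by
      rw [T2.card_eq_multiplicity, C.T.card_eq_multiplicity]] at hdvd2 hlt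
    obtain ⟨k1, hk1⟩ := hdvd1
    have hk1' : k1 < 2 := by
      by_contra hk
      have := Nat.mul_le_mul_left (Nat.card Q) (show 2 ≤ k1 by omega)
      omega
    rcases k1 with _ | _ | k1
    · simp only [mul_zero] at hk1
      exact absurd hk1 (Nat.card_pos (α := ↥((SH : Subgroup H).map H.subtype))).ne'
    · omega
    · omega
  have ht1H : t1 ∈ H := mem_centralizer_singleton_iff.2 ht1c
  have ht12 : t1 * t1 = 1 := by rw [ht1, conj_mul, C.t_sq, mul_one, mul_inv_cancel]
  have hpt : IsPGroup 2 (zpowers (⟨t1, ht1H⟩ : H)) := by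
    refine IsPGroup.of_card (n := 1) ?_
    rw [Nat.card_zpowers, Subgroup.orderOf_mk, pow_one]
    refine orderOf_eq_prime (by rw [sq, ht12]) fun h => C.t_notMem ?_
    rw [ht1, conj_eq_one_iff] at h
    exact h ▸ one_mem _
  obtain ⟨S2, hS2⟩ := hpt.exists_le_sylow
  obtain ⟨h, hh⟩ := MulAction.exists_smul_eq H S2 SH
  have hmem : h * ⟨t1, ht1H⟩ * h⁻¹ ∈ (SH : Subgroup H) := by
    rw [← hh, Sylow.coe_subgroup_smul]
    exact ⟨_, hS2 (mem_zpowers _), rfl⟩
  have hmemQ : (h : K) * t1 * (h : K)⁻¹ ∈ Q := hSHeq ▸ ⟨_, hmem, by simp⟩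
  have e : (h : K) * a' * C.t * ((h : K) * a')⁻¹ = (h : K) * t1 * (h : K)⁻¹ := by rw [ht1]; group
  exact hfinal ((h : K) * a') (e ▸ hmemQ.1) (e ▸ mem_centralizer_singleton_iff.1 hmemQ.2)

end Ctx

end Cfsg.Agent.H62.CyclicFix
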