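import Cfsg.Agent.H77.TransferTwo
import Cfsg.Agent.H50.AbelianSylowTwo
import Cfsg.Agent.S0949

/-!
# Fusion lemmas for small 2-groups in groups without subgroups of index two

Tools and the endgames for an involutory automorphism whose fixed points have cyclic Sylow
2-subgroups of order four.
-/

set_option autoImplicit false

set_option linter.unusedVariables false
set_option linter.unusedSectionVars false
set_option linter.style.haveILetI false

namespace Cfsg.Agent.H62.CyclicFix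

open Subgroup

variable {G : Type*} [Group G] [Finite G]

theorem sylow_map_conj_le (S : Sylow 2 G) {g : G}
    (hg : g ∈ normalizer ((S : Subgroup G) : Set G)) {a : G} (ha : a ∈ S) : g * a * g⁻¹ ∈ S :=
  (mem_normalizer_iff.1 hg a).1 ha

/-- An involution conjugate to the only involutory square of a Sylow 2-subgroup, and centralised
there by a square root of it, equals it. -/
theorem eq_of_conj_of_square (S : Sylow 2 G) {d y s g : G} (hd : ∀ z ∈ (S : Subgroup G), z * d = d * z)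
    (hd1 : d ≠ 1) (hdd : d * d = 1)
    (hsq : ∀ z ∈ (S : Subgroup G), z * z * (z * z) = 1 → z * z = 1 ∨ z * z = d)
    (hs : s ∈ (S : Subgroup G)) (hsy : Commute s y) (hss : s * s = d)
    (hy : g * y * g⁻¹ = d) : y = d := by
  haveI : Fact (Nat.Prime 2) := ⟨Nat.prime_two⟩
  set C := centralizer ({d} : Set G) with hC
  have hSC : (S : Subgroup G) ≤ C := fun z hz => mem_centralizer_singleton_iff.2 (hd z hz)
  have hs' : g * s * g⁻¹ ∈ C := mem_centralizer_singleton_iff.2 (by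
    rw [← hy, conj_mul, conj_mul, hsy.eq])
  have hp : IsPGroup 2 (zpowers (⟨g * s * g⁻¹, hs'⟩ : C)) := by
    obtain ⟨n, hn⟩ := IsPGroup.iff_orderOf.1 S.2 ⟨s, hs⟩
    rw [Subgroup.orderOf_mk] at hn
    refine IsPGroup.of_card (n := n) ?_
    rw [Nat.card_zpowers, Subgroup.orderOf_mk, ← hn]
    exact (SemiconjBy.orderOf_eq g (by simp [SemiconjBy] : SemiconjBy g s (g * s * g⁻¹))).symm
  obtain ⟨S2, hS2⟩ := hp.exists_le_sylow
  obtain ⟨h, hh⟩ := MulAction.exists_smul_eq C S2 (S.subtype hSC)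
  have hmem : h * ⟨g * s * g⁻¹, hs'⟩ * h⁻¹ ∈ ((S.subtype hSC) : Subgroup C) := by
    rw [← hh, Sylow.coe_subgroup_smul]
    exact ⟨_, hS2 (mem_zpowers _), rfl⟩
  have hmem' : (h : G) * (g * s * g⁻¹) * (h : G)⁻¹ ∈ (S : Subgroup G) := by
    simpa using mem_subgroupOf.1 hmem
  have hsd : (h : G) * (g * s * g⁻¹) * (h : G)⁻¹ * ((h : G) * (g * s * g⁻¹) * (h : G)⁻¹)
      = (h : G) * (g * d * g⁻¹) * (h : G)⁻¹ := by rw [← hss]; group
  have hdy : (h : G) * (g * d * g⁻¹) * (h : G)⁻¹ = d := by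
    have h1 := hsq _ hmem' (by rw [hsd, conj_mul, conj_mul, hdd, mul_one, mul_inv_cancel, mul_one,
      mul_inv_cancel])
    rw [hsd] at h1
    rcases h1 with h1 | h1
    · rw [conj_eq_one_iff, conj_eq_one_iff] at h1
      exact absurd h1 hd1
    · exact h1
  have hyd : (h : G) * (g * y * g⁻¹) * (h : G)⁻¹ = d := by
    rw [hy, mem_centralizer_singleton_iff.1 h.2, mul_inv_cancel_right]
  exact mul_left_cancel (mul_right_cancel (mul_left_cancel (mul_right_cancel (hyd.trans hdy.symm))))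

/-- An element generating a normal cyclic subgroup of a Sylow subgroup and conjugate to a central
one is central. -/
theorem central_of_conj (S : Sylow 2 G) {a b g : G}
    (han : ∀ z ∈ (S : Subgroup G), z * a * z⁻¹ ∈ zpowers a) (hbS : b ∈ (S : Subgroup G))
    (hb : ∀ z ∈ (S : Subgroup G), z * b = b * z) (hg : g * a * g⁻¹ = b) :
    ∀ z ∈ (S : Subgroup G), z * a = a * z := by
  haveI : Fact (Nat.Prime 2) := ⟨Nat.prime_two⟩
  set N := normalizer ((zpowers b : Subgroup G) : Set G) with hN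
  have hSN : (S : Subgroup G) ≤ N := by
    intro z hz
    refine mem_normalizer_iff.2 fun x => ⟨?_, ?_⟩
    · rintro ⟨i, rfl⟩
      refine ⟨i, ?_⟩
      have : Commute z (b ^ i) := (show Commute z b from hb z hz).zpow_right i
      show b ^ i = z * b ^ i * z⁻¹
      rw [this.eq, mul_inv_cancel_right]
    · rintro ⟨i, hi⟩
      refine ⟨i, ?_⟩
      have : Commute z (b ^ i) := (show Commute z b from hb z hz).zpow_right i
      have hx : x = z⁻¹ * b ^ i * z := by
        rw [show b ^ i = z * x * z⁻¹ from hi]; group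
      show b ^ i = x
      rw [hx, mul_assoc, ← this.eq, inv_mul_cancel_left]
  have hgN : (g • S : Sylow 2 G).toSubgroup ≤ N := by
    intro w hw
    rw [Sylow.coe_subgroup_smul] at hw
    obtain ⟨z, hz, rfl⟩ := hw
    have hmap : ∀ z ∈ (S : Subgroup G), ∀ x ∈ zpowers b,
        g * z * g⁻¹ * x * (g * z * g⁻¹)⁻¹ ∈ zpowers b := by
      rintro z hz x ⟨i, rfl⟩
      obtain ⟨j, hj⟩ := han z hz
      refine ⟨j * i, ?_⟩
      show b ^ (j * i) = g * z * g⁻¹ * b ^ i * (g * z * g⁻¹)⁻¹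
      rw [zpow_mul, ← hg, conj_zpow, show a ^ j = z * a * z⁻¹ from hj, conj_zpow, conj_zpow,
        conj_zpow]
      group
    refine mem_normalizer_iff.2 fun x => ⟨fun hx => by simpa [mul_assoc] using hmap z hz x hx,
      fun hx => ?_⟩
    have := hmap z⁻¹ (inv_mem hz) _ hx
    simpa [mul_assoc] using this
  obtain ⟨h, hh⟩ := MulAction.exists_smul_eq N ((g • S).subtype hgN) (S.subtype hSN)
  set n := (h : G) * g with hn
  have hnS : ∀ z ∈ (S : Subgroup G), n * z * n⁻¹ ∈ (S : Subgroup G) := by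
    intro z hz
    have hw : g * z * g⁻¹ ∈ (g • S).toSubgroup := by
      rw [Sylow.coe_subgroup_smul]; exact ⟨z, hz, rfl⟩
    have hmem : h * ⟨g * z * g⁻¹, hgN hw⟩ * h⁻¹ ∈ ((S.subtype hSN) : Subgroup N) := by
      rw [← hh, Sylow.coe_subgroup_smul]
      exact ⟨_, mem_subgroupOf.2 hw, rfl⟩
    have := mem_subgroupOf.1 hmem
    rw [hn]
    simpa [mul_assoc] using this
  have hna : n * a * n⁻¹ ∈ zpowers b := by
    have h1 := (mem_normalizer_iff.1 h.2 b).1 (mem_zpowers b)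
    rw [← hg] at h1 ⊢
    rw [hn]
    simpa [mul_assoc] using h1
  intro z hz
  obtain ⟨i, hi⟩ := hna
  have hc : Commute (n * z * n⁻¹) (n * a * n⁻¹) := by
    rw [← show b ^ i = n * a * n⁻¹ from hi]
    exact (show Commute (n * z * n⁻¹) b from hb _ (hnS z hz)).zpow_right i
  have := hc.eq
  rw [conj_mul, conj_mul] at this
  exact mul_left_cancel (mul_right_cancel this)

/-- Two central elements swapped by a normaliser element fixing their product coincide. -/
theorem not_swap (S : Sylow 2 G) {u d n : G} (hu : ∀ z ∈ (S : Subgroup G), z * u = u * z)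
    (huu : u * u = 1) (hdd : d * d = 1) (hd1 : d ≠ 1) (hud : Commute u d)
    (hn : n ∈ normalizer ((S : Subgroup G) : Set G)) (hnu : n * u * n⁻¹ = u * d)
    (hnd : n * d * n⁻¹ = d) : False := by
  haveI : Fact (Nat.Prime 2) := ⟨Nat.prime_two⟩
  obtain ⟨a, b, hb, hab⟩ := Nat.exists_eq_two_pow_mul_odd (orderOf_pos n).ne'
  have hpow : ∀ k : ℕ, n ^ k * u * (n ^ k)⁻¹ = u * d ^ k := by
    intro k
    induction k with
    | zero => simp
    | succ k ih =>
      calc n ^ (k + 1) * u * (n ^ (k + 1))⁻¹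
          = n * (n ^ k * u * (n ^ k)⁻¹) * n⁻¹ := by rw [pow_succ']; group
        _ = (n * u * n⁻¹) * (n * d * n⁻¹) ^ k := by rw [ih, conj_pow]; group
        _ = u * d ^ (k + 1) := by rw [hnu, hnd, pow_succ', mul_assoc]
  have hswap : n ^ b * u * (n ^ b)⁻¹ = u * d := by
    obtain ⟨i, rfl⟩ := hb
    rw [hpow, pow_succ, pow_mul, sq, hdd, one_pow, one_mul]
  have hp : IsPGroup 2 ↥((S : Subgroup G) ⊔ zpowers (n ^ b)) := by
    refine IsPGroup.to_sup_of_normal_left' S.2 (IsPGroup.of_card (n := a) ?_)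
      (zpowers_le.2 (pow_mem hn b))
    rw [Nat.card_zpowers, orderOf_pow' n (by rintro rfl; simp at hb), hab,
      Nat.gcd_eq_right (dvd_mul_left b _), Nat.mul_div_cancel _ hb.pos]
  have hmem : n ^ b ∈ (S : Subgroup G) := by
    rw [← S.3 hp le_sup_left]
    exact mem_sup_right (mem_zpowers _)
  rw [hu _ hmem, mul_inv_cancel_right] at hswap
  exact hd1 (mul_eq_left.1 hswap.symm)

/-- Conjugate central elements are conjugate in the normaliser. -/
theorem conj_in_normalizer (S : Sylow 2 G) {a b g : G} (ha : a ∈ (S : Subgroup G))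
    (hac : ∀ z ∈ (S : Subgroup G), z * a = a * z) (hbc : ∀ z ∈ (S : Subgroup G), z * b = b * z)
    (hg : g * a * g⁻¹ = b) :
    ∃ n ∈ normalizer ((S : Subgroup G) : Set G), n * a * n⁻¹ = b := by
  haveI : Fact (Nat.Prime 2) := ⟨Nat.prime_two⟩
  have hb' : (g⁻¹)⁻¹ * a * g⁻¹ = b := by rw [inv_inv, hg]
  obtain ⟨n, hn, he⟩ := Sylow.conj_eq_normalizer_conj_of_mem_centralizer S a g⁻¹
    (mem_centralizer_iff.2 fun z hz => hac z hz)
    (by rw [hb']; exact mem_centralizer_iff.2 fun z hz => hbc z hz)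
  exact ⟨n⁻¹, inv_mem hn, by rw [inv_inv, ← he, hb']⟩

/-- A characterised involution is fixed by the normaliser. -/
theorem fixed_of_square (S : Sylow 2 G) {d c : G} (hc : c ∈ (S : Subgroup G)) (hcd : c * c = d)
    (hd1 : d ≠ 1) (hdd : d * d = 1)
    (hsq : ∀ z ∈ (S : Subgroup G), z * z * (z * z) = 1 → z * z = 1 ∨ z * z = d) :
    ∀ n ∈ normalizer ((S : Subgroup G) : Set G), n * d * n⁻¹ = d := by
  intro n hn
  have h := hsq _ (sylow_map_conj_le S hn hc) (by
    rw [conj_mul, hcd, conj_mul, hdd, mul_one, mul_inv_cancel])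
  rw [conj_mul, hcd] at h
  exact h.resolve_left fun h => hd1 (conj_eq_one_iff.1 h)

theorem relIndex_eq_two (S M : Subgroup G) (hMS : M ≤ S) {x : G} (hx : x ∈ S) (hxM : x ∉ M)
    (hcov : ∀ z ∈ S, z ∈ M ∨ x⁻¹ * z ∈ M) : M.relIndex S = 2 := by
  rw [Subgroup.relIndex, index_eq_two_iff']
  refine ⟨⟨x, hx⟩⁻¹, fun z => ?_⟩
  simp only [mem_subgroupOf, Subgroup.coe_mul, InvMemClass.coe_inv]
  rcases hcov z z.2 with h | h
  · exact Or.inr ⟨h, fun h' => hxM (inv_inv x ▸ inv_mem (by simpa using mul_mem h' (inv_mem h)))⟩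
  · exact Or.inl ⟨h, fun h' => hxM (by simpa [mul_assoc] using mul_mem h' (inv_mem h))⟩

/-- Thompson transfer for elements of order at most eight. -/
theorem transfer (hG : ∀ H : Subgroup G, H.index ≠ 2) (S : Sylow 2 G) (M : Subgroup G)
    (hMS : M ≤ (S : Subgroup G)) {x' : G} (hx' : x' ∈ (S : Subgroup G)) (hx'M : x' ∉ M)
    (hcov : ∀ z ∈ (S : Subgroup G), z ∈ M ∨ x'⁻¹ * z ∈ M)
    (x : G) (h8 : x ^ 8 = 1)
    (h2 : ∀ g : G, g * (x * x) * g⁻¹ ∈ (S : Subgroup G) → g * (x * x) * g⁻¹ ∈ M)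
    (h4 : ∀ g : G, g * (x * x * (x * x)) * g⁻¹ ∈ (S : Subgroup G) →
      g * (x * x * (x * x)) * g⁻¹ ∈ M) :
    ∃ g : G, g * x * g⁻¹ ∈ M := by
  obtain ⟨n, hn, hxn⟩ := (Nat.dvd_prime_pow Nat.prime_two).1
    (orderOf_dvd_of_pow_eq_one (n := 2 ^ 3) (x := x) h8)
  refine H77.exists_conj_mem_of_transfer hG S M hMS (relIndex_eq_two _ _ hMS hx' hx'M hcov) x n hxn ?_
  intro k g hk hkd hmem
  obtain ⟨i, hi, rfl⟩ := (Nat.dvd_prime_pow Nat.prime_two).1 hkd
  have e2 : x ^ 2 = x * x := sq x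
  have e4 : x ^ 4 = x * x * (x * x) := by rw [← sq, ← sq, ← pow_mul]
  have hi' : i = 1 ∨ i = 2 ∨ i = 3 := by
    rcases i with _ | i
    · simp at hk
    · omega
  rcases hi' with rfl | rfl | rfl
  · have := h2 g⁻¹ (by simpa [e2] using hmem)
    simpa [e2] using this
  · have := h4 g⁻¹ (by simpa [e4] using hmem)
    simpa [e4] using this
  · rw [show x ^ 2 ^ 3 = 1 from h8]
    simp

theorem zpow_eq_of_square_eq_one {r d : G} (hd1 : d ≠ 1) (hdd : d * d = 1) {k : ℤ} (hk : r ^ k = d)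
    {i : ℤ} (hi : r ^ i * r ^ i = 1) : r ^ i = 1 ∨ r ^ i = d := by
  by_cases h1 : r ^ i = 1
  · exact Or.inl h1
  refine Or.inr ?_
  have key : ∀ j : ℤ, r ^ j * r ^ j = 1 → r ^ j ≠ 1 → ∃ h : ℕ, orderOf r = 2 * h ∧ r ^ j = r ^ h := by
    intro j hj hj1
    rw [← zpow_add, ← orderOf_dvd_iff_zpow_eq_one] at hj
    rw [ne_eq, ← orderOf_dvd_iff_zpow_eq_one] at hj1
    obtain ⟨h, hh⟩ : 2 ∣ orderOf r := by
      by_contra hodd
      have : IsCoprime ((orderOf r : ℕ) : ℤ) 2 := by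
        rw [show (2 : ℤ) = ((2 : ℕ) : ℤ) from rfl, Nat.isCoprime_iff_coprime]
        exact ((Nat.Prime.coprime_iff_not_dvd Nat.prime_two).2 hodd).symm
      exact hj1 (this.dvd_of_dvd_mul_left (by rwa [two_mul]))
    refine ⟨h, hh, ?_⟩
    rw [← zpow_natCast r h]
    apply orderOf_dvd_sub_iff_zpow_eq_zpow.1
    obtain ⟨l, hl⟩ := hj
    rw [hh] at hl hj1 ⊢
    push_cast at hl hj1 ⊢
    have hl' : j = (h : ℤ) * l := by linarith
    subst hl'
    obtain ⟨m, rfl⟩ | ⟨m, rfl⟩ := Int.even_or_odd l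
    · exact absurd ⟨m, by ring⟩ hj1
    · exact ⟨m, by ring⟩
  obtain ⟨h, hh, he⟩ := key i hi h1
  obtain ⟨h', hh', he'⟩ := key k (by rw [hk, hdd]) (by rw [hk]; exact hd1)
  obtain rfl : h = h' := by omega
  rw [he, ← he', hk]

end Cfsg.Agent.H62.CyclicFix
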