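import Cfsg.Agent.H24.MaxClass

/-!
# 2-groups with an involution outside an index-two subgroup having two fixed points there

Such a group `Q` has a cyclic subgroup of index two; the index-two subgroup `P` is then cyclic or
has a cyclic subgroup of index two with a good generator attached to each outer element.
-/

set_option autoImplicit false
set_option linter.unusedVariables false
set_option linter.unusedSectionVars false
set_option linter.style.haveILetI false

namespace Cfsg.Agent.H62.CyclicFix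

open Subgroup

universe v

theorem mem_zpowers_of_odd_zpow {H : Type*} [Group H] {g : H} {n : ℕ} (hn : g ^ 2 ^ n = 1) {i : ℤ}
    (hi : ¬ (2 : ℤ) ∣ i) : g ∈ zpowers (g ^ i) := by
  have hco : IsCoprime i ((2 : ℤ) ^ n) := by
    refine IsCoprime.pow_right ?_
    rw [Int.isCoprime_iff_gcd_eq_one]
    rcases (Nat.dvd_prime Nat.prime_two).1 (Int.gcd_dvd_natAbs_right (a := i) (b := 2)) with h | h
    · exact h
    · exact absurd (h ▸ Int.gcd_dvd_left i 2) (by simpa using hi)
  obtain ⟨a, b, hab⟩ := hco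
  refine mem_zpowers_iff.2 ⟨a, ?_⟩
  have h2 : g ^ ((2 : ℤ) ^ n) = 1 := by
    rw [show ((2 : ℤ) ^ n) = ((2 ^ n : ℕ) : ℤ) by push_cast; rfl, zpow_natCast, hn]
  calc (g ^ i) ^ a = g ^ (a * i + b * (2 : ℤ) ^ n) := by
        rw [zpow_add, mul_comm b, zpow_mul g ((2 : ℤ) ^ n) b, h2, one_zpow, mul_one, ← zpow_mul, mul_comm]
    _ = g := by rw [hab, zpow_one]

/-- The structure of the group. -/
theorem quotient_structure {Q : Type v} [Group Q] [Finite Q] (hQ : IsPGroup 2 Q) (P : Subgroup Q)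
    (hP : P.index = 2) {t c : Q} (ht : t ∉ P) (ht2 : t * t = 1) (hc : c ∈ P) (hc1 : c ≠ 1)
    (hc2 : c * c = 1) (htc : Commute t c) (hfix : ∀ p ∈ P, Commute t p → p = 1 ∨ p = c) :
    (∃ r ∈ P, ∀ p ∈ P, p ∈ zpowers r) ∨
    ∃ R : Subgroup Q, R ≤ P ∧ c ∈ R ∧ (∀ x ∈ P, x ∉ R → ∀ z ∈ P, z ∈ R ∨ x⁻¹ * z ∈ R) ∧
      (∃ x ∈ P, x ∉ R) ∧
      ∀ x ∈ P, x ∉ R → zpowers (x⁻¹ * (t * x * t)) = R ∧ (x * x = 1 ∨ x * x = c) := by
  classical
  haveI : Fact (Nat.Prime 2) := ⟨Nat.prime_two⟩
  have htinv : t⁻¹ = t := inv_eq_of_mul_eq_one_right ht2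
  have hcinv : c⁻¹ = c := inv_eq_of_mul_eq_one_right hc2
  set A4 := centralizer ({t} : Set Q) with hA4
  have hcov : ∀ z : Q, z ∈ P ∨ t⁻¹ * z ∈ P := fun z => by
    by_cases hz : z ∈ P
    · exact Or.inl hz
    · exact Or.inr ((mul_mem_iff_of_index_two hP).2 (by simp [inv_mem_iff, ht, hz]))
  have hmem4 : ∀ z, z ∈ A4 ↔ z = 1 ∨ z = c ∨ z = t ∨ z = t * c := fun z => by
    rw [hA4, mem_centralizer_singleton_iff]
    refine ⟨fun h => ?_, ?_⟩
    · rcases hcov z with hz | hz
      · rcases hfix z hz (show Commute t z from h.symm) with h' | h'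
        exacts [Or.inl h', Or.inr (Or.inl h')]
      · rcases hfix _ hz (((Commute.refl t).inv_right).mul_right (show Commute t z from h.symm)) with h' | h'
        · rw [inv_mul_eq_one] at h'
          exact Or.inr (Or.inr (Or.inl h'.symm))
        · rw [inv_mul_eq_iff_eq_mul] at h'
          exact Or.inr (Or.inr (Or.inr h'))
    · rintro (h | h | h | h) <;> rw [h]
      exacts [by simp, htc.eq.symm, ((Commute.refl t).mul_right htc).eq.symm]
  have h4comm : ∀ a ∈ A4, ∀ b ∈ A4, a * b = b * a := by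
    intro a ha b hb
    have hgens : ∀ w, w ∈ A4 → Commute c w ∧ Commute t w := fun w hw => by
      rcases (hmem4 w).1 hw with h | h | h | h <;> rw [h]
      exacts [⟨Commute.one_right _, Commute.one_right _⟩, ⟨Commute.refl c, htc⟩,
        ⟨htc.symm, Commute.refl t⟩,
        ⟨htc.symm.mul_right (Commute.refl c), (Commute.refl t).mul_right htc⟩]
    rcases (hmem4 a).1 ha with h | h | h | h <;> rw [h]
    · simp
    · exact (hgens b hb).1.eq
    · exact (hgens b hb).2.eq
    · exact ((hgens b hb).2.mul_left (hgens b hb).1).eq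
  have hcard4 : Nat.card A4 = 2 ^ 2 := by
    have hset : (A4 : Set Q) = ((({1, c, t, t * c} : Finset Q)) : Set Q) := by
      ext z
      simp [hmem4]
    have h1 : Nat.card A4 = ({1, c, t, t * c} : Finset Q).card := by
      rw [← Set.ncard_coe_finset, ← hset]
      exact Nat.card_coe_set_eq (A4 : Set Q)
    have ht1 : t ≠ 1 := fun h => ht (h ▸ one_mem _)
    have htc1 : t * c ∉ P := fun h => ht (by simpa using mul_mem h (inv_mem hc))
    rw [h1, Finset.card_insert_of_notMem, Finset.card_insert_of_notMem, Finset.card_pair]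
    · norm_num
    · intro h
      exact hc1 (mul_eq_left.1 h.symm)
    · simp only [Finset.mem_insert, Finset.mem_singleton, not_or]
      exact ⟨fun h => ht (h ▸ hc), fun h => htc1 (h ▸ hc)⟩
    · simp only [Finset.mem_insert, Finset.mem_singleton, not_or]
      exact ⟨hc1.symm, ht1.symm, fun h => htc1 (h ▸ one_mem _)⟩
  have hself : centralizer (A4 : Set Q) = A4 := by
    refine le_antisymm (fun z hz => mem_centralizer_singleton_iff.2 ?_)
      (fun z hz => mem_centralizer_iff.2 fun w hw => h4comm w hw z hz)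
    exact (mem_centralizer_iff.1 hz t ((hmem4 t).2 (by tauto))).symm
  obtain ⟨k, hk⟩ := IsPGroup.iff_card.1 hQ
  have hk2 : 2 ≤ k := by
    have h := Subgroup.card_le_card_group A4
    rwa [hcard4, hk, Nat.pow_le_pow_iff_right (by norm_num)] at h
  rcases hk2.lt_or_eq with hk3 | rfl
  swap
  · have htop : A4 = ⊤ := Subgroup.eq_top_of_card_eq A4 (hcard4.trans hk.symm)
    refine Or.inl ⟨c, hc, fun p hp => ?_⟩
    rcases hfix p hp (mem_centralizer_singleton_iff.1 (show p ∈ A4 from htop ▸ mem_top p)).symm with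
      rfl | rfl
    exacts [one_mem _, mem_zpowers _]
  have hclass := H24.class_eq_of_self_centralizing Q 2 k hk A4 hcard4 hself
  obtain ⟨⟨C, hCcyc, hC2⟩, -, -⟩ := H24.two_group_commutator_index_four Q k hk (by omega)
    ((H24.index_commutator_of_max_class Q 2 k hk (by omega) hclass).1.trans (by norm_num))
  obtain ⟨g, hgC⟩ := hCcyc.exists_generator
  by_cases hPC : P ≤ C
  · left
    have hPcyc : IsCyclic P := Subgroup.isCyclic_of_le hPC
    obtain ⟨r, hr⟩ := hPcyc.exists_generator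
    refine ⟨r, r.2, fun p hp => ?_⟩
    obtain ⟨j, hj⟩ := mem_zpowers_iff.1 (hr ⟨p, hp⟩)
    exact mem_zpowers_iff.2 ⟨j, by rw [← Subgroup.coe_zpow, hj]⟩
  right
  obtain ⟨x0, hx0P, hx0C⟩ := SetLike.not_le_iff_exists.1 hPC
  have hCc : ∀ a ∈ C, ∀ b ∈ C, a * b = b * a := fun a ha b hb => by
    obtain ⟨i, hi⟩ := mem_zpowers_iff.1 (hgC ⟨a, ha⟩)
    obtain ⟨j, hj⟩ := mem_zpowers_iff.1 (hgC ⟨b, hb⟩)
    have := congrArg Subtype.val (((Commute.refl g).zpow_zpow i j).eq)
    rw [hi, hj] at this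
    exact this
  have htC : t ∉ C := by
    intro h
    have hle : C ≤ A4 := fun z hz => mem_centralizer_singleton_iff.2 (hCc z hz t h)
    have hCcard : Nat.card C * 2 = 2 ^ k := by rw [← hk, ← hC2, card_mul_index]
    have heq : C = A4 := by
      refine Subgroup.eq_of_le_of_card_ge hle ?_
      have : 2 ^ 3 ≤ 2 ^ k := Nat.pow_le_pow_right (by norm_num) hk3
      rw [hcard4]; omega
    obtain ⟨i, hi⟩ := mem_zpowers_iff.1 (hgC ⟨t, h⟩)
    obtain ⟨j, hj⟩ := mem_zpowers_iff.1 (hgC ⟨c, heq ▸ (hmem4 c).2 (by tauto)⟩)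
    have hg : (g : Q) * g = 1 := by
      rcases (hmem4 (g : Q)).1 (heq ▸ g.2) with h | h | h | h <;> rw [h]
      · simp
      · exact hc2
      · exact ht2
      · rw [htc.symm.mul_mul_mul_comm, ht2, hc2, one_mul]
    have hpow : ∀ i : ℤ, (g : Q) ^ i = 1 ∨ (g : Q) ^ i = g := fun i => by
      obtain ⟨l, rfl⟩ | ⟨l, rfl⟩ := Int.even_or_odd i
      · left; rw [zpow_add, ← (Commute.refl (g : Q)).mul_zpow, hg, one_zpow]
      · right; rw [zpow_add, zpow_one, zpow_mul, zpow_two, hg, one_zpow, one_mul]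
    have hi' : (g : Q) ^ i = t := by rw [← Subgroup.coe_zpow, hi]
    have hj' : (g : Q) ^ j = c := by rw [← Subgroup.coe_zpow, hj]
    have ht1 : t ≠ 1 := fun h' => ht (h' ▸ one_mem _)
    have h1 := (hpow i).resolve_left (hi' ▸ ht1)
    have h2 := (hpow j).resolve_left (hj' ▸ hc1)
    exact ht (by rw [← hi', h1, ← h2, hj']; exact hc)
  set R := C ⊓ P with hR
  have hRcov : ∀ x ∈ P, x ∉ R → ∀ z ∈ P, z ∈ R ∨ x⁻¹ * z ∈ R := fun x hx hxR z hz => by
    by_cases hzC : z ∈ C
    · exact Or.inl ⟨hzC, hz⟩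
    · exact Or.inr ⟨(mul_mem_iff_of_index_two hC2).2
        (by simp [inv_mem_iff, hzC, show x ∉ C from fun h => hxR ⟨h, hx⟩]), P.mul_mem (P.inv_mem hx) hz⟩
  -- the generator attached to an outer element
  have key : ∀ x ∈ P, x ∉ R → c ∈ R ∧ zpowers (x⁻¹ * (t * x * t)) = R ∧ (x * x = 1 ∨ x * x = c) := by
    intro x hx hxR
    have hxC : x ∉ C := fun h => hxR ⟨h, hx⟩
    have hsC : x * t ∈ C := (mul_mem_iff_of_index_two hC2).2 (by simp [hxC, htC])
    have hsP : x * t ∉ P := fun h => ht (by simpa using mul_mem (inv_mem hx) h)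
    set s := x * t with hs
    obtain ⟨n, hn⟩ := hQ s
    have hsgen : ∀ z ∈ C, z ∈ zpowers s := by
      intro z hz
      obtain ⟨i, hi⟩ := mem_zpowers_iff.1 (hgC ⟨s, hsC⟩)
      have hi' : (g : Q) ^ i = s := by rw [← Subgroup.coe_zpow, hi]
      have hodd : ¬ (2 : ℤ) ∣ i := by
        rintro ⟨l, rfl⟩
        apply hsP
        rw [← hi', two_mul, zpow_add]
        exact mul_self_mem_of_index_two hP _
      obtain ⟨m, hm⟩ := hQ (g : Q)
      obtain ⟨a, ha⟩ := mem_zpowers_iff.1 (mem_zpowers_of_odd_zpow hm hodd)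
      obtain ⟨j, hj⟩ := mem_zpowers_iff.1 (hgC ⟨z, hz⟩)
      have hj' : (g : Q) ^ j = z := by rw [← Subgroup.coe_zpow, hj]
      refine mem_zpowers_iff.2 ⟨a * j, ?_⟩
      rw [zpow_mul, ← hi', ha, hj']
    have hs2R : s * s ∈ R := ⟨mul_mem hsC hsC, mul_self_mem_of_index_two hP s⟩
    have hRgen : ∀ z ∈ R, ∃ j : ℤ, (s * s) ^ j = z := by
      intro z hz
      obtain ⟨j, hj⟩ := mem_zpowers_iff.1 (hsgen z hz.1)
      obtain ⟨l, rfl⟩ | ⟨l, rfl⟩ := Int.even_or_odd j
      · exact ⟨l, by rw [← hj, (Commute.refl s).mul_zpow, zpow_add]⟩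
      · exfalso
        apply hsP
        have h1 : s = (s * s) ^ (-l) * z := by
          rw [← hj, (Commute.refl s).mul_zpow]; group
        rw [h1]
        exact P.mul_mem (P.zpow_mem hs2R.2 _) hz.2
    have hxx : x * x ∈ R := ⟨mul_self_mem_of_index_two hC2 x, mul_mem hx hx⟩
    have hxx4 : x * x ∈ A4 := mem_centralizer_singleton_iff.2 (by
      have h1 : Commute (x * x) (x⁻¹ * s) :=
        (((Commute.refl x).mul_left (Commute.refl x)).inv_right).mul_right (hCc _ hxx.1 _ hsC)
      rw [hs, inv_mul_cancel_left] at h1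
      exact h1.eq)
    have hxx' : x * x = 1 ∨ x * x = c :=
      hfix _ hxx.2 (show Commute t (x * x) from (mem_centralizer_singleton_iff.1 hxx4).symm)
    set r := x⁻¹ * (t * x * t) with hr
    have hss : s * s = x * x * r := by rw [hs, hr]; group
    have hrR : r ∈ R := by
      have : r = (x * x)⁻¹ * (s * s) := by rw [hss, inv_mul_cancel_left]
      rw [this]; exact mul_mem (inv_mem hxx) hs2R
    have hr1 : r ≠ 1 := by
      intro h
      rw [hr, inv_mul_eq_one] at h
      have hcx : Commute t x := by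
        show t * x = x * t
        nth_rw 2 [h]
        simp only [mul_assoc, ht2, mul_one]
      rcases hfix x hx hcx with hx' | hx'
      · exact hxR (hx' ▸ one_mem R)
      · refine hxR ?_
        have hcC : x * t ∈ C := hsC
        -- `c` is the involution of the cyclic group
        exfalso
        have hs2 : s * s = 1 := by rw [hs, hx', htc.mul_mul_mul_comm, ht2, hc2, one_mul]
        have hle : C ≤ A4 := fun z hz => by
          obtain ⟨j, rfl⟩ := mem_zpowers_iff.1 (hsgen z hz)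
          exact zpow_mem (mem_centralizer_singleton_iff.2 (by
            rw [hs, hx']; exact (htc.symm.mul_left (Commute.refl t)).eq)) j
        have hcard : Nat.card C ≤ 2 := by
          have hC' : C ≤ zpowers s := fun z hz => hsgen z hz
          refine (Subgroup.card_le_of_le hC').trans ?_
          rw [Nat.card_zpowers]
          exact Nat.le_of_dvd (by norm_num) (orderOf_dvd_of_pow_eq_one (by rw [sq, hs2]))
        have hCcard : Nat.card C * 2 = 2 ^ k := by rw [← hk, ← hC2, card_mul_index]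
        have : 2 ^ 3 ≤ 2 ^ k := Nat.pow_le_pow_right (by norm_num) hk3
        omega
    obtain ⟨i, hi⟩ := hRgen r hrR
    have hodd : ¬ (2 : ℤ) ∣ i := by
      rintro ⟨l, rfl⟩
      have h1 : (s * s) ^ (1 - 2 * l) = x * x := by
        rw [zpow_sub, zpow_one, hi, hss, mul_inv_cancel_right]
      have h2 : x * x * (x * x) = 1 := by
        rcases hxx' with h | h <;> rw [h]
        exacts [one_mul 1, hc2]
      have hsn : (s * s) ^ 2 ^ n = 1 := by rw [(Commute.refl s).mul_pow, hn, one_mul]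
      have h3 : (s * s) ∈ zpowers ((s * s) ^ (1 - 2 * l)) :=
        mem_zpowers_of_odd_zpow hsn (by omega)
      rw [h1] at h3
      obtain ⟨a, ha⟩ := mem_zpowers_iff.1 h3
      apply hr1
      rw [← hi, ← ha, ← zpow_mul, show a * (2 * l) = 2 * (a * l) by ring, zpow_mul, zpow_two, h2, one_zpow]
    have hgenR : zpowers r = R := by
      refine le_antisymm (zpowers_le.2 hrR) fun z hz => ?_
      obtain ⟨j, rfl⟩ := hRgen z hz
      have hsn : (s * s) ^ 2 ^ n = 1 := by rw [(Commute.refl s).mul_pow, hn, one_mul]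
      obtain ⟨a, ha⟩ := mem_zpowers_iff.1 (mem_zpowers_of_odd_zpow hsn hodd)
      rw [hi] at ha
      rw [← ha]
      exact zpow_mem (zpow_mem (mem_zpowers _) _) _
    refine ⟨?_, hgenR, hxx'⟩
    -- the involution of `R` commutes with `t`
    have htr : t * r * t = r⁻¹ := by
      rw [hr, mul_inv_rev, inv_inv, mul_inv_rev, mul_inv_rev, htinv]
      simp only [← mul_assoc]
      simp only [mul_assoc, ht2, mul_one]
    obtain ⟨m, hm⟩ := IsPGroup.iff_orderOf.1 hQ r
    obtain ⟨m', rfl⟩ : ∃ m', m = m' + 1 := ⟨m - 1, by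
      rcases m with _ | m
      · exact absurd (orderOf_eq_one_iff.1 (by simpa using hm)) hr1
      · rfl⟩
    set z := r ^ 2 ^ m' with hz
    have hz1 : z ≠ 1 :=
      pow_ne_one_of_lt_orderOf (by positivity) (hm ▸ Nat.pow_lt_pow_right (by norm_num) (by omega))
    have hz2 : z * z = 1 := by rw [hz, ← pow_add, ← two_mul, ← pow_succ', ← hm, pow_orderOf_eq_one]
    have hzt : Commute t z := by
      have h1 : t * z * t⁻¹ = z⁻¹ := by
        rw [hz, ← conj_pow, htinv, htr, inv_pow]
      rw [inv_eq_of_mul_eq_one_right hz2, mul_inv_eq_iff_eq_mul] at h1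
      exact h1
    have hzR : z ∈ R := hgenR ▸ pow_mem (mem_zpowers r) _
    rcases hfix z hzR.2 hzt with h | h
    · exact absurd h hz1
    · exact h ▸ hzR
  exact ⟨R, inf_le_right, (key x0 hx0P fun h => hx0C h.1).1, hRcov,
    ⟨x0, hx0P, fun h => hx0C h.1⟩, fun x hx hxR => (key x hx hxR).2⟩

end Cfsg.Agent.H62.CyclicFix
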