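import Cfsg.Agent.H62.CyclicFix.KleinFree
import Cfsg.Agent.H62.CyclicFix.Quotient

/-!
# A perfect normal subgroup with small fixed points of an outside involution has one involution

`Ctx.unique`: the Sylow subgroup of `A` has a single involution.
-/

set_option autoImplicit false
set_option linter.unusedVariables false
set_option linter.unusedSectionVars false
set_option linter.style.haveILetI false
set_option linter.unusedSimpArgs false

namespace Cfsg.Agent.H62.CyclicFix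

open Subgroup

namespace Ctx

variable {K : Type*} [Group K] [Finite K] {A : Subgroup K}

/-- A second involution of `P` giving a four-group normalised by `T`. -/
structure Four (C : Ctx A) where
  u : K
  mem : u ∈ C.P
  sq : u * u = 1
  ne : u ≠ 1
  ne_d : u ≠ C.d
  conj : ∀ g ∈ (C.T : Subgroup K), g * u * g⁻¹ = u ∨ g * u * g⁻¹ = u * C.d

namespace Four

variable {C : Ctx A} (F : Four C)

theorem mem_T : F.u ∈ (C.T : Subgroup K) := F.mem.2

theorem u_d : Commute F.u C.d := C.d_central _ F.mem_T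

/-- The four-group. -/
def U : Subgroup K where
  carrier := {p | p = 1 ∨ p = C.d ∨ p = F.u ∨ p = F.u * C.d}
  one_mem' := Or.inl rfl
  mul_mem' := by
    have hdd := C.d_sq
    have huu := F.sq
    have hdu : C.d * F.u = F.u * C.d := F.u_d.eq.symm
    have h1 : ∀ w, C.d * (F.u * w) = F.u * (C.d * w) := fun w => by rw [← mul_assoc, hdu, mul_assoc]
    have h2 : ∀ w, C.d * (C.d * w) = w := fun w => by rw [← mul_assoc, hdd, one_mul]
    have h3 : ∀ w, F.u * (F.u * w) = w := fun w => by rw [← mul_assoc, huu, one_mul]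
    rintro a b (ha | ha | ha | ha) (hb | hb | hb | hb) <;>
      simp [ha, hb, mul_assoc, hdd, huu, hdu, h1, h3]
  inv_mem' := by
    rintro a (ha | ha | ha | ha) <;> subst ha
    · exact Or.inl inv_one
    · exact Or.inr (Or.inl C.d_inv)
    · exact Or.inr (Or.inr (Or.inl (inv_eq_of_mul_eq_one_right F.sq)))
    · refine Or.inr (Or.inr (Or.inr (inv_eq_of_mul_eq_one_right ?_)))
      rw [F.u_d.symm.mul_mul_mul_comm, F.sq, C.d_sq, one_mul]

theorem mem_U {p : K} : p ∈ F.U ↔ p = 1 ∨ p = C.d ∨ p = F.u ∨ p = F.u * C.d := Iff.rfl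

theorem U_le : F.U ≤ C.P := by
  rintro p (h | h | h | h) <;> subst h
  exacts [one_mem _, C.d_mem, F.mem, mul_mem F.mem C.d_mem]

theorem U_sq {p : K} (hp : p ∈ F.U) : p * p = 1 := by
  rcases F.mem_U.1 hp with h | h | h | h <;> subst h
  exacts [one_mul 1, C.d_sq, F.sq, by rw [F.u_d.symm.mul_mul_mul_comm, F.sq, C.d_sq, one_mul]]

theorem U_d {p : K} (hp : p ∈ F.U) : Commute p C.d := C.d_central _ (F.U_le hp).2

theorem conj_U {g : K} (hg : g ∈ (C.T : Subgroup K)) {p : K} (hp : p ∈ F.U) : g * p * g⁻¹ ∈ F.U := by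
  rcases F.mem_U.1 hp with h | h | h | h <;> subst h
  · simp
  · exact Or.inr (Or.inl (by rw [C.d_central g hg, mul_inv_cancel_right]))
  · rcases F.conj g hg with h | h <;> rw [h]
    exacts [Or.inr (Or.inr (Or.inl rfl)), Or.inr (Or.inr (Or.inr rfl))]
  · rw [← conj_mul, C.d_central g hg, mul_inv_cancel_right]
    rcases F.conj g hg with h | h <;> rw [h]
    exacts [Or.inr (Or.inr (Or.inr rfl)), Or.inr (Or.inr (Or.inl (by rw [mul_assoc, C.d_sq, mul_one])))]

theorem t_u : C.t * F.u * C.t = F.u * C.d := by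
  have h := F.conj C.t C.t_mem
  rw [C.t_inv] at h
  refine h.resolve_left fun h => ?_
  have hc : Commute C.t F.u := by
    show C.t * F.u = F.u * C.t
    nth_rw 2 [← h]
    simp only [mul_assoc, C.t_sq, mul_one]
  rcases C.fix F.u F.mem hc with h' | h' | h' | h'
  · exact F.ne h'
  · exact F.ne_d h'
  · exact C.c_ne (h' ▸ F.sq)
  · refine C.c_ne ?_
    have h'' := F.sq
    rwa [h', (show Commute C.c (C.c * C.c) from
      (Commute.refl _).mul_right (Commute.refl _)).symm.mul_mul_mul_comm, C.c_four, mul_one] at h''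

theorem t_ud : C.t * (F.u * C.d) * C.t = F.u := by
  rw [← mul_assoc, mul_assoc (C.t * F.u), ← C.d_central C.t C.t_mem, ← mul_assoc, F.t_u, mul_assoc,
    C.d_sq, mul_one]

theorem c_notMem : C.c ∉ F.U := fun h => C.c_ne (F.U_sq h)

include F in
theorem c_t : C.t * C.c * C.t = C.c := by
  rw [C.t_c.eq, mul_assoc, C.t_sq, mul_one]

theorem fixed_mem {p : K} (hp : p ∈ C.P) (h : p⁻¹ * (C.t * p * C.t) ∈ F.U) :
    p ∈ F.U ∨ C.c⁻¹ * p ∈ F.U := by
  have hfix : ∀ q ∈ C.P, C.t * q * C.t = q → q ∈ F.U ∨ C.c⁻¹ * q ∈ F.U := by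
    intro q hq htq
    have hc : Commute C.t q := by
      show C.t * q = q * C.t
      nth_rw 2 [← htq]
      simp only [mul_assoc, C.t_sq, mul_one]
    rcases C.fix q hq hc with h | h | h | h
    · exact Or.inl (Or.inl h)
    · exact Or.inl (Or.inr (Or.inl h))
    · exact Or.inr (Or.inl (by rw [h, inv_mul_cancel]))
    · exact Or.inr (Or.inr (Or.inl (by rw [h, inv_mul_cancel_left]; rfl)))
  have hpu : Commute F.u C.d := F.u_d
  set e := p⁻¹ * (C.t * p * C.t) with he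
  have hp' : C.t * p * C.t = p * e := by rw [he, mul_inv_cancel_left]
  have hete : C.t * e * C.t = e := by
    have h1 : C.t * e * C.t = e⁻¹ := by
      rw [he, mul_inv_rev, inv_inv, mul_inv_rev, mul_inv_rev, C.t_inv]
      simp only [mul_assoc, C.t_sq, mul_one]
    rw [h1]
    exact inv_eq_of_mul_eq_one_right (F.U_sq h)
  rcases F.mem_U.1 h with h' | h' | h' | h' <;> rw [h'] at hp' hete
  · exact hfix p hp (by rw [hp', mul_one])
  · have h2 : C.t * (p * F.u) * C.t = p * F.u := by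
      calc C.t * (p * F.u) * C.t = C.t * p * (C.t * C.t) * F.u * C.t := by
            rw [C.t_sq, mul_one, mul_assoc C.t p]
        _ = (C.t * p * C.t) * (C.t * F.u * C.t) := by group
        _ = p * F.u := by
          rw [hp', F.t_u, ← mul_assoc, mul_assoc p, hpu.eq.symm, ← mul_assoc p, mul_assoc (p * F.u),
            C.d_sq, mul_one]
    rcases hfix _ (mul_mem hp F.mem) h2 with h3 | h3
    · left
      simpa [mul_assoc, F.sq] using mul_mem h3 (show F.u ∈ F.U from Or.inr (Or.inr (Or.inl rfl)))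
    · right
      simpa [mul_assoc, F.sq] using mul_mem h3 (show F.u ∈ F.U from Or.inr (Or.inr (Or.inl rfl)))
  · rw [F.t_u, mul_eq_left] at hete
    exact absurd hete C.d_ne
  · exfalso
    have h2 : C.t * (F.u * C.d) * C.t = F.u := by
      rw [← mul_assoc, mul_assoc (C.t * F.u), ← C.d_central C.t C.t_mem, ← mul_assoc, F.t_u,
        mul_assoc, C.d_sq, mul_one]
    rw [h2, left_eq_mul] at hete
    exact C.d_ne hete

/-- The structure of `P` modulo the four-group. -/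
theorem structure_mod : (∃ r ∈ C.P, ∀ p ∈ C.P, ∃ j : ℤ, (r ^ j)⁻¹ * p ∈ F.U) ∨
    ∃ R : Subgroup K, R ≤ C.P ∧ F.U ≤ R ∧ C.c ∈ R ∧
      (∀ x ∈ C.P, x ∉ R → ∀ z ∈ C.P, z ∈ R ∨ x⁻¹ * z ∈ R) ∧ (∃ x ∈ C.P, x ∉ R) ∧
      ∀ x ∈ C.P, x ∉ R → x⁻¹ * (C.t * x * C.t) ∈ R ∧
        (∀ z ∈ R, ∃ j : ℤ, ((x⁻¹ * (C.t * x * C.t)) ^ j)⁻¹ * z ∈ F.U) ∧
        (x * x ∈ F.U ∨ C.c⁻¹ * (x * x) ∈ F.U) := by
  haveI : Fact (Nat.Prime 2) := ⟨Nat.prime_two⟩
  set N := F.U.subgroupOf (C.T : Subgroup K) with hN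
  haveI : N.Normal := ⟨fun p hp g => F.conj_U g.2 hp⟩
  set π := QuotientGroup.mk' N with hπ
  have heq : ∀ a b : (C.T : Subgroup K), π a = π b ↔ (a : K)⁻¹ * b ∈ F.U := fun a b => by
    rw [hπ, QuotientGroup.mk'_apply, QuotientGroup.mk'_apply, QuotientGroup.eq]
    exact Iff.rfl
  set P' := C.P.subgroupOf (C.T : Subgroup K) with hP'
  have hker : π.ker ≤ P' := by
    rw [hπ, QuotientGroup.ker_mk']
    exact fun p hp => F.U_le hp
  have hsurj : Function.Surjective π := QuotientGroup.mk'_surjective N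
  have hP'mem : ∀ {p : (C.T : Subgroup K)}, p ∈ P' ↔ (p : K) ∈ A := fun {p} =>
    ⟨fun h => h.1, fun h => ⟨h, p.2⟩⟩
  set t' : (C.T : Subgroup K) := ⟨C.t, C.t_mem⟩ with ht'
  set c' : (C.T : Subgroup K) := ⟨C.c, C.c_mem.2⟩ with hc'
  have hP'2 : P'.index = 2 := by
    rw [index_eq_two_iff']
    refine ⟨t', fun z => ?_⟩
    by_cases hz : (z : K) ∈ A
    · refine Or.inr ⟨hP'mem.2 hz, fun h' => C.t_notMem ?_⟩
      have h1 : C.t * (z : K) ∈ A := hP'mem.1 h'
      simpa using mul_mem h1 (inv_mem hz)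
    · have h : C.t * (z : K) ∈ A := (C.gen (z : K)).resolve_left hz
      exact Or.inl ⟨hP'mem.2 h, fun h' => hz (hP'mem.1 h')⟩
  have hidx : (P'.map π).index = 2 := by
    rw [index_map_eq _ hsurj hker, hP'2]
  have hmap : ∀ p : (C.T : Subgroup K), π p ∈ P'.map π ↔ p ∈ P' := fun p => by
    refine ⟨fun h => ?_, fun h => mem_map_of_mem π h⟩
    have : p ∈ (P'.map π).comap π := h
    rwa [comap_map_eq_self hker] at this
  have hone : ∀ a : (C.T : Subgroup K), π a = 1 ↔ (a : K) ∈ F.U := fun a => by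
    rw [hπ, QuotientGroup.mk'_apply, QuotientGroup.eq_one_iff]
    exact Iff.rfl
  have hpcases : ∀ p ∈ P', Commute (π t') (π p) → π p = 1 ∨ π p = π c' := by
    intro p hp hc
    have h1 : π p = π (t' * p * t') := by
      rw [map_mul, map_mul, hc.eq, mul_assoc, ← map_mul, show t' * t' = 1 from Subtype.ext C.t_sq,
        map_one, mul_one]
    rw [heq] at h1
    rcases F.fixed_mem hp h1 with h | h
    · exact Or.inl ((hone p).2 h)
    · exact Or.inr ((heq c' p).2 h).symm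
  rcases quotient_structure ((C.T.isPGroup').to_quotient N) (P'.map π) hidx (t := π t') (c := π c')
      (fun h => C.t_notMem (hP'mem.1 ((hmap t').1 h)))
      (by rw [← map_mul, show t' * t' = 1 from Subtype.ext C.t_sq, map_one])
      ((hmap c').2 (hP'mem.2 C.c_mem.1))
      (fun h => F.c_notMem ((hone c').1 h))
      (by rw [← map_mul]; exact (hone _).2 (show C.c * C.c ∈ F.U from Or.inr (Or.inl rfl)))
      ((show Commute t' c' from Subtype.ext C.t_c.eq).map π)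
      (by rintro _ ⟨p, hp, rfl⟩; exact hpcases p hp) with h | h
  · obtain ⟨r, hr, hgen⟩ := h
    obtain ⟨r, rfl⟩ := hsurj r
    refine Or.inl ⟨r, (hmap r).1 hr, fun p hp => ?_⟩
    obtain ⟨j, hj⟩ := mem_zpowers_iff.1 (hgen _ ((hmap ⟨p, hp.2⟩).2 hp))
    rw [← map_zpow, heq, Subgroup.coe_zpow] at hj
    exact ⟨j, hj⟩
  · obtain ⟨R, hRP, hcR, hcov, ⟨x0, hx0, hx0R⟩, hout⟩ := h
    obtain ⟨x0, rfl⟩ := hsurj x0
    set R' := (R.comap π).map (C.T : Subgroup K).subtype with hR'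
    have hR'mem : ∀ p : (C.T : Subgroup K), (p : K) ∈ R' ↔ π p ∈ R := fun p => by
      refine ⟨?_, fun h => ⟨p, h, rfl⟩⟩
      rintro ⟨q, hq, hqp⟩
      rwa [← Subtype.ext (a1 := q) (a2 := p) hqp]
    have hR'P : R' ≤ C.P := by
      rintro _ ⟨q, hq, rfl⟩
      exact (hmap q).1 (hRP hq)
    refine Or.inr ⟨R', hR'P, fun p hp => (hR'mem ⟨p, (F.U_le hp).2⟩).2 ?_, (hR'mem c').2 hcR,
      fun x hx hxR z hz => ?_, ⟨x0, (hmap x0).1 hx0, fun h => hx0R ((hR'mem x0).1 h)⟩,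
      fun x hx hxR => ?_⟩
    · rw [(hone _).2 hp]; exact one_mem R
    · rcases hcov _ ((hmap ⟨x, hx.2⟩).2 hx) (fun h => hxR ((hR'mem ⟨x, hx.2⟩).2 h)) _
        ((hmap ⟨z, hz.2⟩).2 hz) with h | h
      · exact Or.inl ((hR'mem ⟨z, hz.2⟩).2 h)
      · rw [← map_inv, ← map_mul] at h
        exact Or.inr ((hR'mem _).2 h)
    · obtain ⟨hgen, hsq⟩ := hout _ ((hmap ⟨x, hx.2⟩).2 hx) (fun h => hxR ((hR'mem ⟨x, hx.2⟩).2 h))
      rw [← map_inv, ← map_mul, ← map_mul, ← map_mul] at hgen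
      refine ⟨(hR'mem _).2 (hgen ▸ mem_zpowers _), fun z hz => ?_, ?_⟩
      · obtain ⟨j, hj⟩ := mem_zpowers_iff.1
          (hgen.symm ▸ (hR'mem ⟨z, (hR'P hz).2⟩).1 hz)
        rw [← map_zpow, heq, Subgroup.coe_zpow] at hj
        exact ⟨j, hj⟩
      · rw [← map_mul] at hsq
        rcases hsq with h | h
        · exact Or.inl ((hone _).1 h)
        · exact Or.inr ((heq c' _).1 h.symm)

theorem U_comm_of_commute {p : K} (hp : Commute p F.u) (hp' : p ∈ (C.T : Subgroup K)) {w : K}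
    (hw : w ∈ F.U) : Commute p w := by
  rcases F.mem_U.1 hw with h | h | h | h <;> subst h
  exacts [Commute.one_right _, C.d_central p hp', hp, hp.mul_right (C.d_central p hp')]

/-- Every element of a coset of the four-group lies in `⟨r⟩` or `⟨r⟩u`. -/
theorem cover_of {r : K} {k : ℤ} (hk : r ^ k * r ^ k = C.d) {p : K} {j : ℤ}
    (hj : (r ^ j)⁻¹ * p ∈ F.U) : ∃ i : ℤ, p = r ^ i ∨ p = r ^ i * F.u := by
  rw [← zpow_add] at hk
  rcases F.mem_U.1 hj with h | h | h | h <;> rw [inv_mul_eq_iff_eq_mul] at h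
  · exact ⟨j, Or.inl (h.trans (mul_one _))⟩
  · exact ⟨j + (k + k), Or.inl (by rw [h, zpow_add, hk])⟩
  · exact ⟨j, Or.inr h⟩
  · exact ⟨j + (k + k), Or.inr (by rw [h, zpow_add, hk, F.u_d.eq, mul_assoc])⟩

/-- The cyclic case is impossible. -/
theorem false_of_cyclic {r : K} (hr : r ∈ C.P) (hcov : ∀ p ∈ C.P, ∃ j : ℤ, (r ^ j)⁻¹ * p ∈ F.U) :
    False := by
  classical
  haveI : Fact (Nat.Prime 2) := ⟨Nat.prime_two⟩
  have hd := C.d_central
  have hdd := C.d_sq
  obtain ⟨j, hjc⟩ := hcov C.c C.c_mem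
  have hcr : C.c = r ^ j * ((r ^ j)⁻¹ * C.c) := (mul_inv_cancel_left _ _).symm
  set w := (r ^ j)⁻¹ * C.c with hw
  have hru' : r * F.u * r⁻¹ = F.u ∨ r * F.u * r⁻¹ = F.u * C.d := F.conj r hr.2
  by_cases hcu : Commute C.c F.u
  · have hrju : Commute (r ^ j) F.u := by
      have h1 : r ^ j = C.c * w⁻¹ := by rw [hw]; group
      rw [h1]
      refine hcu.mul_left ?_
      rcases F.mem_U.1 hjc with h | h | h | h <;> rw [h]
      exacts [(Commute.one_left _).inv_left, (F.u_d.symm).inv_left, (Commute.refl _).inv_left,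
        ((Commute.refl _).mul_left F.u_d.symm).inv_left]
    have hk : r ^ j * r ^ j = C.d := by
      have h1 : Commute (r ^ j) w := F.U_comm_of_commute hrju ((C.T : Subgroup K).zpow_mem hr.2 _) hjc
      have h2 : C.d = C.c * C.c := rfl
      rw [h2, hcr, h1.symm.mul_mul_mul_comm, F.U_sq hjc, mul_one]
    have hcov' : ∀ z ∈ (C.sylowA : Subgroup A), ∃ i : ℤ,
        z = (⟨r, hr.1⟩ : A) ^ i ∨ z = (⟨r, hr.1⟩ : A) ^ i * ⟨F.u, F.mem.1⟩ := by
      intro z hz
      obtain ⟨i, hi⟩ := hcov _ (C.mem_sylowA.1 hz)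
      obtain ⟨i', h | h⟩ := F.cover_of hk hi
      · exact ⟨i', Or.inl (Subtype.ext (by simpa using h))⟩
      · exact ⟨i', Or.inr (Subtype.ext (by simpa using h))⟩
    rcases hru' with h | h
    · exact false_of_abelian C.not_index_two C.sylowA (r := ⟨r, hr.1⟩) (u := ⟨F.u, F.mem.1⟩)
        (d := ⟨C.d, C.d_mem.1⟩) (k := j) (C.mem_sylowA.2 hr)
        (fun h' => C.d_ne (congrArg Subtype.val h')) (Subtype.ext hdd)
        (Subtype.ext (by simpa using hk)) (Subtype.ext F.sq)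
        (Subtype.ext (mul_inv_eq_iff_eq_mul.1 h)) hcov'
    · have hru : F.u * r * F.u = r * C.d := by
        have h1 := mul_inv_eq_iff_eq_mul.1 h
        rw [mul_assoc F.u r, h1, ← mul_assoc, ← mul_assoc, F.sq, one_mul, hd r hr.2]
      exact false_of_modular C.not_index_two C.sylowA (r := ⟨r, hr.1⟩) (u := ⟨F.u, F.mem.1⟩)
        (d := ⟨C.d, C.d_mem.1⟩) (k := j) (C.mem_sylowA.2 hr) (C.mem_sylowA.2 F.mem)
        (fun z hz => Subtype.ext (hd _ (C.mem_sylowA.1 hz).2))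
        (fun h' => C.d_ne (congrArg Subtype.val h')) (Subtype.ext hdd)
        (Subtype.ext (by simpa using hk)) (Subtype.ext F.sq)
        (fun h' => F.ne (congrArg Subtype.val h')) (fun h' => F.ne_d (congrArg Subtype.val h'))
        (Subtype.ext hru) (Subtype.ext (by simpa using hrju.eq)) hcov'
  -- `c` moves `u`: the dihedral group of order eight
  have hcu' : C.c * F.u * C.c⁻¹ = F.u * C.d :=
    (F.conj _ C.c_mem.2).resolve_left fun h => hcu (mul_inv_eq_iff_eq_mul.1 h)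
  have hPdec : ∀ p ∈ C.P, p ∈ F.U ∨ C.c⁻¹ * p ∈ F.U := by
    intro p hp
    obtain ⟨i, hi⟩ := hcov p hp
    -- modulo the four-group `r` is `c`
    set N := F.U.subgroupOf (C.T : Subgroup K) with hN
    haveI : N.Normal := ⟨fun p hp g => F.conj_U g.2 hp⟩
    set π := QuotientGroup.mk' N
    have heq : ∀ a b : (C.T : Subgroup K), π a = π b ↔ (a : K)⁻¹ * b ∈ F.U := fun a b =>
      (QuotientGroup.eq).trans Iff.rfl
    have h1 : π (⟨r, hr.2⟩ ^ i) = π ⟨p, hp.2⟩ := (heq _ _).2 (by simpa using hi)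
    have h2 : π (⟨r, hr.2⟩ ^ j) = π ⟨C.c, C.c_mem.2⟩ := (heq _ _).2 (by simpa using hjc)
    have hodd : ¬ (2 : ℤ) ∣ j := by
      rintro ⟨l, rfl⟩
      apply hcu
      have hru2 : Commute (r * r) F.u := by
        refine mul_inv_eq_iff_eq_mul.1 ?_
        rw [show r * r * F.u * (r * r)⁻¹ = r * (r * F.u * r⁻¹) * r⁻¹ by group]
        rcases hru' with h | h
        · rw [h, h]
        · rw [h, ← conj_mul, h, hd r hr.2, mul_inv_cancel_right, mul_assoc, hdd, mul_one]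
      have hrju : Commute (r ^ (2 * l)) F.u := by
        rw [zpow_mul, zpow_two]; exact hru2.zpow_left l
      rw [hcr]
      refine hrju.mul_left ?_
      rcases F.mem_U.1 hjc with h | h | h | h <;> rw [h]
      exacts [Commute.one_left _, F.u_d.symm, Commute.refl _, (Commute.refl _).mul_left F.u_d.symm]
    set rb := π (⟨r, hr.2⟩ : (C.T : Subgroup K)) with hrb
    rw [map_zpow] at h1 h2
    have hr2 : rb * rb = 1 := by
      obtain ⟨n, hn⟩ := (C.T.isPGroup'.to_quotient N) rb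
      obtain ⟨a, ha⟩ := mem_zpowers_iff.1 (mem_zpowers_of_odd_zpow hn hodd)
      rw [h2] at ha
      rw [← ha, ← (Commute.refl _).mul_zpow, ← map_mul]
      have : π ((⟨C.c, C.c_mem.2⟩ : (C.T : Subgroup K)) * ⟨C.c, C.c_mem.2⟩) = π 1 :=
        ((heq 1 _).2 (show (1 : K)⁻¹ * C.d ∈ F.U by rw [inv_one, one_mul]; exact Or.inr (Or.inl rfl))).symm
      rw [this, map_one, one_zpow]
    have hpow : ∀ i : ℤ, rb ^ i = 1 ∨ rb ^ i = rb := fun i => by
      obtain ⟨l, rfl⟩ | ⟨l, rfl⟩ := Int.even_or_odd i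
      · left; rw [zpow_add, ← (Commute.refl _).mul_zpow, hr2, one_zpow]
      · right; rw [zpow_add, zpow_one, zpow_mul, zpow_two, hr2, one_zpow, one_mul]
    have hrc : rb ^ j = rb := (hpow j).resolve_left fun h => F.c_notMem (by
      have := (heq 1 _).1 (by rw [map_one, ← h, h2] :
        π 1 = π (⟨C.c, C.c_mem.2⟩ : (C.T : Subgroup K)))
      simpa using this)
    rcases hpow i with h | h
    · left
      have := (heq 1 _).1 (by rw [map_one, ← h, h1] : π 1 = π ⟨p, hp.2⟩)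
      simpa using this
    · right
      exact (heq ⟨C.c, C.c_mem.2⟩ ⟨p, hp.2⟩).1 (by rw [← h2, hrc, ← h1, h])
  set M := zpowers C.c with hM
  have hMP : M ≤ C.P := zpowers_le.2 C.c_mem
  have hMd : C.d ∈ M := mul_mem (mem_zpowers C.c) (mem_zpowers C.c)
  have hMcases : ∀ z ∈ M, z = 1 ∨ z = C.d ∨ z = C.c ∨ z = C.c * C.d := by
    intro z hz
    obtain ⟨i, rfl⟩ := mem_zpowers_iff.1 hz
    have hd2 : ∀ i : ℤ, C.d ^ i = 1 ∨ C.d ^ i = C.d := fun i => by
      obtain ⟨l, rfl⟩ | ⟨l, rfl⟩ := Int.even_or_odd i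
      · left; rw [zpow_add, ← (Commute.refl _).mul_zpow, hdd, one_zpow]
      · right; rw [zpow_add, zpow_one, zpow_mul, zpow_two, hdd, one_zpow, one_mul]
    obtain ⟨l, rfl⟩ | ⟨l, rfl⟩ := Int.even_or_odd i
    · rw [zpow_add, ← (Commute.refl _).mul_zpow]
      rcases hd2 l with h | h
      exacts [Or.inl h, Or.inr (Or.inl h)]
    · rw [add_comm, zpow_add, zpow_one, zpow_mul, zpow_two]
      rcases hd2 l with h | h
      exacts [Or.inr (Or.inr (Or.inl (by rw [show C.c * C.c = C.d from rfl, h, mul_one]))),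
        Or.inr (Or.inr (Or.inr (by rw [show C.c * C.c = C.d from rfl, h])))]
  have huM : F.u ∉ M := fun h => by
    obtain ⟨i, hi⟩ := mem_zpowers_iff.1 h
    exact hcu (hi ▸ ((Commute.refl C.c).zpow_right i))
  have hcdM : C.c * C.d ∈ M := mul_mem (mem_zpowers _) hMd
  -- rewriting rules towards the normal form `c u d t`
  have uu := F.sq
  have cc : C.c * C.c = C.d := rfl
  have tt := C.t_sq
  have dc : C.d * C.c = C.c * C.d := (hd _ C.c_mem.2).symm
  have du : C.d * F.u = F.u * C.d := F.u_d.eq.symm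
  have td : C.t * C.d = C.d * C.t := hd _ C.t_mem
  have tc : C.t * C.c = C.c * C.t := C.t_c.eq
  have uc : F.u * C.c = C.c * (F.u * C.d) := by
    have h1 : C.c * F.u = F.u * C.d * C.c := mul_inv_eq_iff_eq_mul.1 hcu'
    rw [← mul_assoc, h1, mul_assoc (F.u * C.d), ← dc, ← mul_assoc (F.u * C.d), mul_assoc F.u, hdd, mul_one]
  have tu : C.t * F.u = F.u * (C.d * C.t) := by
    rw [← mul_assoc, ← F.t_u, mul_assoc, tt, mul_one]
  have aw : ∀ {a b e : K}, a * b = e → ∀ w, a * (b * w) = e * w := fun h w => by rw [← mul_assoc, h]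
  have hcov2 : ∀ z ∈ C.P, z ∈ M ∨ F.u⁻¹ * z ∈ M := by
    have huinv : F.u⁻¹ = F.u := inv_eq_of_mul_eq_one_right F.sq
    have h1 := one_mem M
    have h2 : C.c ∈ M := mem_zpowers _
    intro z hz
    rw [huinv]
    rcases hPdec z hz with h | h <;> rcases F.mem_U.1 h with e | e | e | e
    any_goals rw [inv_mul_eq_iff_eq_mul] at e
    all_goals subst e
    all_goals simp [mul_assoc, uu, cc, hdd, dc, du, uc, aw uu, aw cc, aw hdd, aw dc, aw du, aw uc, h1,
      hMd, hcdM, h2]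
  obtain ⟨a, haA, haM⟩ := C.conj_mem_of_index_two M hMP F.mem huM hcov2 F.mem.1
    (by rw [show (8 : ℕ) = 2 * 4 from rfl, pow_mul, pow_two, F.sq, one_pow])
    (fun a _ _ => by rw [F.sq, mul_one, mul_inv_cancel]; exact one_mem _)
    (fun a _ _ => by rw [F.sq, mul_one, mul_one, mul_inv_cancel]; exact one_mem _)
  have hcd2 : C.c * C.d * (C.c * C.d) = C.d := by
    rw [(show Commute C.c C.d from hd _ C.c_mem.2).symm.mul_mul_mul_comm, hdd, mul_one]; rfl
  have had : a * F.u * a⁻¹ = C.d := by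
    have h2 : a * F.u * a⁻¹ * (a * F.u * a⁻¹) = 1 := by rw [conj_mul, F.sq, mul_one, mul_inv_cancel]
    rcases hMcases _ haM with h | h | h | h
    · exact absurd (conj_eq_one_iff.1 h) F.ne
    · exact h
    · rw [h] at h2; exact absurd h2 C.c_ne
    · rw [h, hcd2] at h2; exact absurd h2 C.d_ne
  have hTsq : ∀ z ∈ (C.T : Subgroup K), z * z * (z * z) = 1 → z * z = 1 ∨ z * z = C.d := by
    intro z hz _
    rcases C.gen z with h | h
    · rcases hPdec z ⟨h, hz⟩ with h' | h'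
      all_goals rcases F.mem_U.1 h' with e | e | e | e
      any_goals rw [inv_mul_eq_iff_eq_mul] at e
      all_goals subst e
      all_goals simp [mul_assoc, uu, cc, hdd, dc, du, uc, aw uu, aw cc, aw hdd, aw dc, aw du, aw uc]
    · obtain ⟨p, hp, rfl⟩ : ∃ p ∈ C.P, z = C.t * p :=
        ⟨C.t * z, ⟨h, mul_mem C.t_mem hz⟩, by rw [← mul_assoc, tt, one_mul]⟩
      rcases hPdec p hp with h' | h'
      all_goals rcases F.mem_U.1 h' with e | e | e | e
      any_goals rw [inv_mul_eq_iff_eq_mul] at e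
      all_goals subst e
      all_goals simp [mul_assoc, uu, cc, hdd, dc, du, uc, tt, td, tc, tu, aw uu, aw cc, aw hdd, aw dc,
        aw du, aw uc, aw tt, aw td, aw tc, aw tu]
  refine F.ne_d (eq_of_conj_of_square C.T hd C.d_ne hdd hTsq (mul_mem C.t_mem C.c_mem.2)
    (s := C.t * C.c) ?_ ?_ had)
  · show C.t * C.c * F.u = F.u * (C.t * C.c)
    simp [mul_assoc, uu, cc, hdd, dc, du, uc, tt, td, tc, tu, aw uu, aw cc, aw hdd, aw dc,
      aw du, aw uc, aw tt, aw td, aw tc, aw tu]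
  · rw [C.t_c.symm.mul_mul_mul_comm, C.t_sq, one_mul]; rfl

/-- The data attached to an outer element. -/
theorem exists_data {R : Subgroup K} (hRP : R ≤ C.P) (hUR : F.U ≤ R) (hcR : C.c ∈ R) {x : K}
    (hx : x ∈ C.P) (hxR : x ∉ R) (hcov : ∀ z ∈ C.P, z ∈ R ∨ x⁻¹ * z ∈ R)
    (hrR : x⁻¹ * (C.t * x * C.t) ∈ R)
    (hgen : ∀ z ∈ R, ∃ j : ℤ, ((x⁻¹ * (C.t * x * C.t)) ^ j)⁻¹ * z ∈ F.U)
    (hsq : x * x ∈ F.U ∨ C.c⁻¹ * (x * x) ∈ F.U) :
    ∃ D : Data C.sylowA, (D.x : K) = x ∧ (D.u : K) = F.u ∧ (D.d : K) = C.d ∧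
      (D.r : K) = x⁻¹ * (C.t * x * C.t) ∧ (∀ z : A, z ∈ D.R ↔ (z : K) ∈ R) ∧
      (D.δ : K) = (x * x)⁻¹ * (C.t * (x * x) * C.t) ∧ (D.η = 1 ↔ x⁻¹ * F.u * x = F.u) ∧
      (x * x ∉ F.U → C.c * F.u = F.u * C.c) := by
  set r := x⁻¹ * (C.t * x * C.t) with hr
  have hd := C.d_central
  have hdd := C.d_sq
  have hxT := hx.2
  -- `r` centralises `u`
  have huinv : F.u⁻¹ = F.u := inv_eq_of_mul_eq_one_right F.sq
  obtain ⟨η, hη, hxu⟩ : ∃ η, (η = 1 ∨ η = C.d) ∧ x⁻¹ * F.u * x = F.u * η := by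
    rcases F.conj x⁻¹ ((C.T : Subgroup K).inv_mem hxT) with h | h <;> rw [inv_inv] at h
    exacts [⟨1, Or.inl rfl, by rw [h, mul_one]⟩, ⟨C.d, Or.inr rfl, h⟩]
  have hηc : ∀ g ∈ (C.T : Subgroup K), g * η * g⁻¹ = η := fun g hg => by
    rcases hη with h | h <;> rw [h]
    exacts [by simp, by rw [hd g hg, mul_inv_cancel_right]]
  have hru : Commute r F.u := by
    refine mul_inv_eq_iff_eq_mul.1 ?_
    have hxu' : x * F.u * x⁻¹ = F.u * η := by
      have hη2 : η * η = 1 := by rcases hη with h | h <;> rw [h]; exacts [one_mul 1, hdd]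
      calc x * F.u * x⁻¹ = x * ((x⁻¹ * F.u * x) * η) * x⁻¹ := by
            rw [hxu, mul_assoc F.u η η, hη2, mul_one]
        _ = F.u * (x * η * x⁻¹) := by group
        _ = F.u * η := by rw [hηc x hxT]
    calc r * F.u * r⁻¹ = x⁻¹ * (C.t * (x * (C.t * F.u * C.t⁻¹) * x⁻¹) * C.t⁻¹) * x := by
          rw [hr]; simp only [mul_inv_rev, inv_inv, C.t_inv, mul_assoc]
      _ = x⁻¹ * (C.t * ((x * F.u * x⁻¹) * (x * C.d * x⁻¹)) * C.t⁻¹) * x := by
          rw [C.t_inv, F.t_u]; group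
      _ = x⁻¹ * ((C.t * F.u * C.t⁻¹) * (C.t * η * C.t⁻¹) * (C.t * C.d * C.t⁻¹)) * x := by
          rw [hxu', hd x hxT, mul_inv_cancel_right]; group
      _ = x⁻¹ * (F.u * η) * x := by
          rw [hηc C.t C.t_mem, hd C.t C.t_mem, mul_inv_cancel_right, C.t_inv, F.t_u, mul_assoc F.u,
            ← show η * C.d = C.d * η from by rcases hη with h | h <;> simp [h],
            mul_assoc F.u, mul_assoc η, hdd, mul_one]
      _ = (x⁻¹ * F.u * x) * (x⁻¹ * η * x⁻¹⁻¹) := by group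
      _ = F.u := by
          rw [hηc _ ((C.T : Subgroup K).inv_mem hxT), hxu, mul_assoc]
          rcases hη with h | h <;> simp [h, hdd]
  have hUc : ∀ {w}, w ∈ F.U → Commute r w := fun hw => F.U_comm_of_commute hru (hRP hrR).2 hw
  obtain ⟨k, hk⟩ := hgen C.c hcR
  have hkd : r ^ k * r ^ k = C.d := by
    have h1 : C.c = r ^ k * ((r ^ k)⁻¹ * C.c) := (mul_inv_cancel_left _ _).symm
    have h2 : C.d = C.c * C.c := rfl
    rw [h2, h1, ((hUc hk).zpow_left k).symm.mul_mul_mul_comm, F.U_sq hk, mul_one]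
  have hcu : C.c * F.u = F.u * C.c := by
    have h1 : C.c = r ^ k * ((r ^ k)⁻¹ * C.c) := (mul_inv_cancel_left _ _).symm
    rw [h1]
    refine ((hru.zpow_left k).mul_left ?_).eq
    rcases F.mem_U.1 hk with h | h | h | h <;> rw [h]
    exacts [Commute.one_left _, F.u_d.symm, Commute.refl _, (Commute.refl _).mul_left F.u_d.symm]
  -- `δ`
  set q := x * x with hq
  set δ := q⁻¹ * (C.t * q * C.t) with hδ
  have hδd : δ = 1 ∨ δ = C.d := by
    have hU : ∀ w ∈ F.U, w⁻¹ * (C.t * w * C.t) = 1 ∨ w⁻¹ * (C.t * w * C.t) = C.d := by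
      intro w hw
      rcases F.mem_U.1 hw with h | h | h | h <;> rw [h]
      · left; simp [C.t_sq]
      · left; rw [hd C.t C.t_mem, mul_assoc, C.t_sq, mul_one, inv_mul_cancel]
      · right; rw [F.t_u, inv_mul_cancel_left]
      · right
        rw [F.t_ud, mul_inv_rev, huinv, C.d_inv, mul_assoc, F.sq, mul_one]
    rcases hsq with h | h
    · exact hU q h
    · have h1 := hU _ h
      have h2 : (C.c⁻¹ * q)⁻¹ * (C.t * (C.c⁻¹ * q) * C.t) = δ := by
        calc (C.c⁻¹ * q)⁻¹ * (C.t * (C.c⁻¹ * q) * C.t)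
            = q⁻¹ * (C.c * (C.t * C.c⁻¹)) * q * C.t := by group
          _ = δ := by rw [hδ, C.t_c.inv_right.eq, mul_inv_cancel_left]; simp only [mul_assoc]
      rwa [h2] at h1
  have hxr : x⁻¹ * r * x = r⁻¹ * δ := by
    have h1 : x⁻¹ * r * x * r = δ := by
      rw [hr, hδ, hq]
      calc x⁻¹ * (x⁻¹ * (C.t * x * C.t)) * x * (x⁻¹ * (C.t * x * C.t))
          = (x * x)⁻¹ * (C.t * x * (C.t * C.t) * x * C.t) := by group
        _ = _ := by rw [C.t_sq, mul_one]; group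
    have h2 : Commute δ r := by
      rcases hδd with h | h <;> rw [h]
      exacts [Commute.one_left r, (hd r (hRP hrR).2).symm]
    rw [eq_mul_inv_of_mul_eq h1, h2.inv_right.eq]
  have hRmem : ∀ z, z ∈ R ↔ ∃ j : ℤ, z = r ^ j ∨ z = r ^ j * F.u := by
    refine fun z => ⟨fun hz => ?_, ?_⟩
    · obtain ⟨j, hj⟩ := hgen z hz
      exact F.cover_of hkd hj
    · rintro ⟨j, h | h⟩ <;> rw [h]
      · exact zpow_mem hrR j
      · exact mul_mem (zpow_mem hrR j) (hUR (Or.inr (Or.inr (Or.inl rfl))))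
  have hδA : δ ∈ A := by
    rcases hδd with h | h <;> rw [h]
    exacts [one_mem _, C.d_mem.1]
  have hηA : η ∈ A := by
    rcases hη with h | h <;> rw [h]
    exacts [one_mem _, C.d_mem.1]
  have hsub : ∀ {a b : A}, a = b ↔ (a : K) = b := fun {a b} => Subtype.ext_iff
  let D : Data C.sylowA :=
    { r := ⟨r, (hRP hrR).1⟩
      u := ⟨F.u, F.mem.1⟩
      d := ⟨C.d, C.d_mem.1⟩
      x := ⟨x, hx.1⟩
      δ := ⟨δ, hδA⟩
      η := ⟨η, hηA⟩
      k := k
      r_mem := C.mem_sylowA.2 (hRP hrR)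
      u_mem := C.mem_sylowA.2 F.mem
      x_mem := C.mem_sylowA.2 hx
      d_central := fun z hz => Subtype.ext (hd _ (C.mem_sylowA.1 hz).2)
      d_ne := fun h => C.d_ne (congrArg Subtype.val h)
      d_sq := Subtype.ext hdd
      k_sq := Subtype.ext (by simpa using hkd)
      u_sq := Subtype.ext F.sq
      u_ne := fun h => F.ne (congrArg Subtype.val h)
      u_ne_d := fun h => F.ne_d (congrArg Subtype.val h)
      r_u := Subtype.ext hru.eq
      δ_cases := by simpa [Subtype.ext_iff] using hδd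
      η_cases := by simpa [Subtype.ext_iff] using hη
      x_r := Subtype.ext (by simpa using hxr)
      x_u := Subtype.ext (by simpa using hxu)
      cover := fun z hz => by
        rcases hcov _ (C.mem_sylowA.1 hz) with h | h
        · obtain ⟨j, h | h⟩ := (hRmem _).1 h
          exacts [⟨j, Or.inl (Subtype.ext (by simpa using h))⟩,
            ⟨j, Or.inr (Or.inl (Subtype.ext (by simpa using h)))⟩]
        · obtain ⟨j, h | h⟩ := (hRmem _).1 h <;> rw [inv_mul_eq_iff_eq_mul] at h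
          exacts [⟨j, Or.inr (Or.inr (Or.inl (Subtype.ext (by simpa using h))))⟩,
            ⟨j, Or.inr (Or.inr (Or.inr (Subtype.ext (by simpa using h))))⟩]
      x_out := fun j => ⟨fun h => hxR ((hRmem x).2 ⟨j, Or.inl (by simpa [Subtype.ext_iff] using h)⟩),
        fun h => hxR ((hRmem x).2 ⟨j, Or.inr (by simpa [Subtype.ext_iff] using h)⟩)⟩
      x_sq := by
        have : x * x ∈ R := by
          rcases hsq with h | h
          · exact hUR h
          · simpa using mul_mem hcR (hUR h)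
        obtain ⟨i, h | h⟩ := (hRmem _).1 this
        exacts [⟨i, Or.inl (Subtype.ext (by simpa using h))⟩,
          ⟨i, Or.inr (Subtype.ext (by simpa using h))⟩] }
  refine ⟨D, rfl, rfl, rfl, rfl, fun z => ?_, rfl, ?_, fun _ => hcu⟩
  · rw [D.mem_R, hRmem]
    simp only [Subtype.ext_iff, D]
    simp
  · show (⟨η, hηA⟩ : A) = 1 ↔ _
    rw [hxu, mul_eq_left, Subtype.ext_iff]
    rfl

/-- The non-cyclic case is impossible. -/
theorem false_of_noncyclic {R : Subgroup K} (hRP : R ≤ C.P) (hUR : F.U ≤ R) (hcR : C.c ∈ R)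
    (hcov : ∀ x ∈ C.P, x ∉ R → ∀ z ∈ C.P, z ∈ R ∨ x⁻¹ * z ∈ R) {x0 : K} (hx0 : x0 ∈ C.P)
    (hx0R : x0 ∉ R)
    (hout : ∀ x ∈ C.P, x ∉ R → x⁻¹ * (C.t * x * C.t) ∈ R ∧
      (∀ z ∈ R, ∃ j : ℤ, ((x⁻¹ * (C.t * x * C.t)) ^ j)⁻¹ * z ∈ F.U) ∧
      (x * x ∈ F.U ∨ C.c⁻¹ * (x * x) ∈ F.U)) : False := by
  classical
  have hdata : ∀ x ∈ C.P, x ∉ R → ∃ D : Data C.sylowA, (D.x : K) = x ∧ (D.u : K) = F.u ∧
      (D.d : K) = C.d ∧ (D.r : K) = x⁻¹ * (C.t * x * C.t) ∧ (∀ z : A, z ∈ D.R ↔ (z : K) ∈ R) ∧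
      (D.δ : K) = (x * x)⁻¹ * (C.t * (x * x) * C.t) ∧ (D.η = 1 ↔ x⁻¹ * F.u * x = F.u) ∧
      (x * x ∉ F.U → C.c * F.u = F.u * C.c) := fun x hx hxR =>
    F.exists_data hRP hUR hcR hx hxR (hcov x hx hxR) (hout x hx hxR).1 (hout x hx hxR).2.1
      (hout x hx hxR).2.2
  have hG := C.not_index_two
  obtain ⟨D, hDx, hDu, hDd, hDr, hDR, hDδ, hDη, hcu⟩ := hdata x0 hx0 hx0R
  have hd := C.d_central
  have hdd := C.d_sq
  have huU : F.u ∈ F.U := Or.inr (Or.inr (Or.inl rfl))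
  by_cases hqU : x0 * x0 ∈ F.U
  swap
  · refine Data.false_of_order_eight D hG (Subtype.ext ?_)
    have hw := (hout x0 hx0 hx0R).2.2.resolve_left hqU
    have hcw : Commute C.c (C.c⁻¹ * (x0 * x0)) := F.U_comm_of_commute (hcu hqU) C.c_mem.2 hw
    simp only [Subgroup.coe_mul, hDx, hDd]
    calc x0 * x0 * (x0 * x0)
        = C.c * (C.c⁻¹ * (x0 * x0)) * (C.c * (C.c⁻¹ * (x0 * x0))) := by rw [mul_inv_cancel_left]
      _ = C.d := by rw [hcw.symm.mul_mul_mul_comm, F.U_sq hw, mul_one]; rfl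
  have hqc : Commute x0 (x0 * x0) := (Commute.refl x0).mul_right (Commute.refl x0)
  have hδ1 : ∀ {y : K} {D' : Data C.sylowA},
      (D'.δ : K) = (y * y)⁻¹ * (C.t * (y * y) * C.t) → (y * y = 1 ∨ y * y = C.d) → D'.δ = 1 := by
    intro y D' h1 h2
    apply Subtype.ext
    rw [h1]
    rcases h2 with h | h <;> rw [h]
    · simp [C.t_sq]
    · rw [hd C.t C.t_mem, mul_assoc, C.t_sq, mul_one, inv_mul_cancel]; rfl
  by_cases hη : x0⁻¹ * F.u * x0 = F.u
  swap
  · -- `u` is moved: there is an involution outside `R`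
    have hxu : x0⁻¹ * F.u * x0 = F.u * C.d := by
      have h := F.conj x0⁻¹ ((C.T : Subgroup K).inv_mem hx0.2)
      rw [inv_inv] at h
      exact h.resolve_left hη
    have hxuc : ¬ Commute x0 F.u := fun h => hη (by rw [mul_assoc, ← h.eq, inv_mul_cancel_left])
    have hq1 : x0 * x0 = 1 ∨ x0 * x0 = C.d := by
      rcases F.mem_U.1 hqU with h | h | h | h
      · exact Or.inl h
      · exact Or.inr h
      · exact absurd (h ▸ hqc) hxuc
      · exfalso
        apply hxuc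
        have h' : F.u = x0 * x0 * C.d := by rw [h, mul_assoc, hdd, mul_one]
        rw [h']
        exact hqc.mul_right (hd x0 hx0.2)
    obtain ⟨y, hy, hyR, hyy, hyu⟩ : ∃ y ∈ C.P, y ∉ R ∧ y * y = 1 ∧ ¬ y⁻¹ * F.u * y = F.u := by
      rcases hq1 with h | h
      · exact ⟨x0, hx0, hx0R, h, hη⟩
      · refine ⟨x0 * F.u, mul_mem hx0 F.mem, fun h' => hx0R (by
          simpa [mul_assoc, F.sq] using mul_mem h' (hUR huU)), ?_, fun h' => hη ?_⟩
        · calc x0 * F.u * (x0 * F.u) = x0 * x0 * ((x0⁻¹ * F.u * x0) * F.u) := by group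
            _ = 1 := by rw [h, hxu, mul_assoc F.u, ← F.u_d.eq, ← mul_assoc F.u, F.sq, one_mul, hdd]
        · have h1 : (x0 * F.u)⁻¹ * F.u * (x0 * F.u) = F.u⁻¹ * (x0⁻¹ * F.u * x0) * F.u := by group
          rw [h1, hxu] at h'
          rw [hxu]
          rwa [inv_mul_cancel_left, ← F.u_d.eq] at h'
    obtain ⟨D', hx', hu', hd', hr', hR', hδ', hη', -⟩ := hdata y hy hyR
    refine Data.false_of_involution_moving D' hG (Subtype.ext (by simp [hx', hyy])) (hδ1 hδ' (Or.inl hyy)) ?_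
    exact D'.η_cases.resolve_left fun h => hyu (hη'.1 h)
  -- `u` is central
  have hcentral : ∀ {y : K} {D' : Data C.sylowA}, y ∈ C.P → y ∉ R →
      (D'.η = 1 ↔ y⁻¹ * F.u * y = F.u) → D'.η = 1 := by
    intro y D' hy hyR h
    refine h.2 ?_
    have hz := D.u_central (hDη.2 hη) ⟨y, hy.1⟩ (C.mem_sylowA.2 hy)
    have hz' : y * F.u = F.u * y := by
      have := congrArg Subtype.val hz
      simpa [hDu] using this
    rw [mul_assoc, ← hz', inv_mul_cancel_left]
  by_cases hinv : ∃ y ∈ C.P, y ∉ R ∧ y * y = 1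
  · obtain ⟨y, hy, hyR, hyy⟩ := hinv
    obtain ⟨D', hx', hu', hd', hr', hR', hδ', hη', -⟩ := hdata y hy hyR
    refine Data.false_of_involution_central D' hG (Subtype.ext (by simp [hx', hyy])) (hδ1 hδ' (Or.inl hyy))
      (hcentral hy hyR hη') fun z hz hzR hzz => ?_
    have hzP : (z : K) ∈ C.P := C.mem_sylowA.1 hz
    have hzR' : (z : K) ∉ R := fun h => hzR ((hR' z).2 h)
    have hzz' : (z : K) * z = 1 := congrArg Subtype.val hzz
    obtain ⟨E, hx'', hu'', hd'', hr'', hR'', hδ'', hη'', -⟩ := hdata z hzP hzR'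
    have hEx : E.x = z := Subtype.ext hx''
    have hEd : E.d = D'.d := Subtype.ext (hd''.trans hd'.symm)
    rw [← hEx, ← hEd]
    refine Data.not_conj_d_of_involution E hG (Subtype.ext (by simp [hx'', hzz'])) (hδ1 hδ'' (Or.inl hzz'))
      (hcentral hzP hzR' hη'') fun h => ?_
    obtain ⟨a, ha⟩ := isConj_iff.1 h
    refine isConj_iff.2 ⟨⟨C.t * a * C.t⁻¹, C.normal.conj_mem a a.2 C.t⟩, Subtype.ext ?_⟩
    have ha' : (a : K) * z * (a : K)⁻¹ = C.d := by
      have := congrArg Subtype.val ha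
      simpa [hx'', hd''] using this
    simp only [Subgroup.coe_mul, InvMemClass.coe_inv, hx'', hr'', hd'']
    calc C.t * (a : K) * C.t⁻¹ * ((z : K) * ((z : K)⁻¹ * (C.t * z * C.t))) * (C.t * a * C.t⁻¹)⁻¹
        = C.t * ((a : K) * z * (C.t * C.t) * (a : K)⁻¹) * C.t⁻¹ := by group
      _ = C.d := by rw [C.t_sq, mul_one, ha', hd C.t C.t_mem, mul_inv_cancel_right]
  push Not at hinv
  rcases F.mem_U.1 hqU with h | h | h | h
  · exact hinv x0 hx0 hx0R h
  · exact Data.false_of_quaternion D hG (Subtype.ext (by simp [hDx, hDd, h])) (hδ1 hDδ (Or.inr h))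
      (hDη.2 hη)
  all_goals
    refine Data.false_of_squares_outside D hG C.perfect ?_ (Subtype.ext ?_) (hDη.2 hη)
    · simp [Subtype.ext_iff, hDx, hDu, hDd, h]
    · rw [hDδ, hDd, h]
      first
        | rw [F.t_u, inv_mul_cancel_left]
        | rw [F.t_ud, mul_inv_rev, inv_eq_of_mul_eq_one_right F.sq, C.d_inv, mul_assoc, F.sq, mul_one]

include F in
theorem elim : False := by
  rcases F.structure_mod with ⟨r, hr, hcov⟩ | ⟨R, hRP, hUR, hcR, hcov, ⟨x0, hx0, hx0R⟩, hout⟩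
  · exact F.false_of_cyclic hr hcov
  · exact F.false_of_noncyclic hRP hUR hcR hcov hx0 hx0R hout

end Four

/-- `P` has only one involution. -/
theorem unique (C : Ctx A) : ∀ r ∈ C.P, r * r = 1 → r = 1 ∨ r = C.d := by
  rcases C.unique_or_four with h | ⟨u, hu, huu, hu1, hud, hconj⟩
  · exact h
  · exact (Four.elim ⟨u, hu, huu, hu1, hud, hconj⟩).elim

end Ctx

end Cfsg.Agent.H62.CyclicFix
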