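import Cfsg.Agent.H62.CyclicFix.Main
import Cfsg.Agent.H51.Component
import Cfsg.Prelude.Def_CaseTheorems

/-!
# Perfect groups normalised by an involution with fixed Sylow 2-subgroup cyclic of order four
-/

set_option autoImplicit false
set_option linter.unusedVariables false
set_option linter.unusedSectionVars false
set_option linter.style.haveILetI false

namespace Cfsg.Agent.H62.CyclicFix

open Subgroup
open scoped Pointwise

variable {G : Type*} [Group G] [Finite G]

/-- In a cyclic group of order four generated by `c`, the four elements. -/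
theorem cases_of_cyclic_four {H : Type*} [Group H] [IsCyclic H] (hH : Nat.card H = 4) :
    ∃ c : H, c * c ≠ 1 ∧ c * c * (c * c) = 1 ∧
      ∀ p : H, p = 1 ∨ p = c * c ∨ p = c ∨ p = c * (c * c) := by
  obtain ⟨c, hc⟩ := IsCyclic.exists_ofOrder_eq_natCard (α := H)
  rw [hH] at hc
  have h4 : c * c * (c * c) = 1 := by
    rw [← sq c, ← sq, ← pow_mul, ← orderOf_dvd_iff_pow_eq_one, hc]
  refine ⟨c, fun h => ?_, h4, fun p => ?_⟩
  · have := orderOf_dvd_of_pow_eq_one (show c ^ 2 = 1 by rw [sq, h])
    rw [hc] at this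
    norm_num at this
  · haveI : Finite H := Nat.finite_of_card_ne_zero (by omega)
    have hp : p ∈ zpowers c := by
      rw [Subgroup.eq_top_of_card_eq (zpowers c) (by rw [Nat.card_zpowers, hc, hH])]
      exact mem_top p
    obtain ⟨n, hn, rfl⟩ : ∃ n < 4, c ^ n = p := by
      obtain ⟨n, hn⟩ := (isOfFinOrder_of_finite c).mem_powers_iff_mem_zpowers.2 hp
      exact ⟨n % 4, Nat.mod_lt _ (by norm_num), by rw [← hc, pow_mod_orderOf]; exact hn⟩
    rcases n with _ | _ | _ | _ | n
    · exact Or.inl (pow_zero c)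
    · exact Or.inr (Or.inr (Or.inl (pow_one c)))
    · exact Or.inr (Or.inl (sq c))
    · exact Or.inr (Or.inr (Or.inr (by rw [pow_succ', sq])))
    · omega

theorem rank_one (A : Subgroup G) (hA : _root_.commutator ↥A = ⊤) (t : G) (ht : orderOf t = 2)
    (htA : t ∈ normalizer (A : Set G))
    (hC : ∀ R : Sylow 2 ↥(A ⊓ centralizer ({t} : Set G)), IsCyclic R ∧ Nat.card R = 4) :
    (∀ E : Subgroup A, IsMulCommutative E → (∀ a ∈ E, a ^ 2 = 1) → Nat.card E ≤ 2) ∧
      ∃ a : A, a * a = 1 ∧ a ≠ 1 := by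
  classical
  haveI : Fact (Nat.Prime 2) := ⟨Nat.prime_two⟩
  set H := A ⊓ centralizer ({t} : Set G) with hH
  have tt : t * t = 1 := by rw [← sq, ← ht, pow_orderOf_eq_one]
  obtain ⟨R⟩ : Nonempty (Sylow 2 H) := inferInstance
  obtain ⟨hRc, hR4⟩ := hC R
  obtain ⟨c, hc1, hc4, hcases⟩ := cases_of_cyclic_four hR4
  set c0 : G := ((c : H) : G) with hc0
  have hc01 : c0 * c0 ≠ 1 := fun h => hc1 (Subtype.ext (Subtype.ext h))
  have hc04 : c0 * c0 * (c0 * c0) = 1 := congrArg (fun x : R => ((x : H) : G)) hc4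
  have hcA : c0 ∈ A := (c : H).2.1
  have htc : Commute t c0 := mem_centralizer_singleton_iff.1 (c : H).2.2 |>.symm
  have hRcases : ∀ p : H, p ∈ (R : Subgroup H) →
      (p : G) = 1 ∨ (p : G) = c0 * c0 ∨ (p : G) = c0 ∨ (p : G) = c0 * (c0 * c0) := fun p hp => by
    rcases hcases ⟨p, hp⟩ with h | h | h | h
    exacts [Or.inl (congrArg (fun x : R => ((x : H) : G)) h),
      Or.inr (Or.inl (congrArg (fun x : R => ((x : H) : G)) h)),
      Or.inr (Or.inr (Or.inl (congrArg (fun x : R => ((x : H) : G)) h))),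
      Or.inr (Or.inr (Or.inr (congrArg (fun x : R => ((x : H) : G)) h)))]
  -- commuting involutions of `A` fixed by `t` coincide
  have hinv : ∀ p ∈ A, ∀ q ∈ A, p * p = 1 → q * q = 1 → p ≠ 1 → q ≠ 1 → Commute p q →
      Commute t p → Commute t q → p = q := by
    intro p hp q hq hp2 hq2 hp1 hq1 hpq htp htq
    set p' : H := ⟨p, hp, mem_centralizer_singleton_iff.2 htp.symm.eq⟩ with hp'
    set q' : H := ⟨q, hq, mem_centralizer_singleton_iff.2 htq.symm.eq⟩ with hq'
    have hpq' : Commute p' q' := Subtype.ext hpq.eq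
    let W : Subgroup H :=
      { carrier := {w | w * w = 1 ∧ Commute w p' ∧ Commute w q' ∧ ∃ i j : ℕ, w = p' ^ i * q' ^ j}
        one_mem' := ⟨one_mul 1, Commute.one_left _, Commute.one_left _, 0, 0, by simp⟩
        mul_mem' := by
          rintro a b ⟨ha, hap, haq, i, j, rfl⟩ ⟨hb, hbp, hbq, k, l, rfl⟩
          have hab : Commute (p' ^ i * q' ^ j) (p' ^ k * q' ^ l) :=
            ((hap.pow_right k).mul_right (haq.pow_right l))
          refine ⟨by rw [hab.symm.mul_mul_mul_comm, ha, hb, one_mul], hap.mul_left hbp,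
            haq.mul_left hbq, i + k, j + l, ?_⟩
          rw [pow_add, pow_add, (hpq'.pow_pow k j).mul_mul_mul_comm]
        inv_mem' := by
          rintro a ⟨ha, hrest⟩
          rw [inv_eq_of_mul_eq_one_right ha]
          exact ⟨ha, hrest⟩ }
    have hWp : IsPGroup 2 W := fun w => ⟨1, Subtype.ext (by simpa [sq] using w.2.1)⟩
    obtain ⟨S, hS⟩ := hWp.exists_le_sylow
    obtain ⟨h, hh⟩ := MulAction.exists_smul_eq H S R
    have hmem : ∀ w ∈ W, h * w * h⁻¹ ∈ (R : Subgroup H) := fun w hw => by
      rw [← hh, Sylow.coe_subgroup_smul]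
      exact ⟨w, hS hw, rfl⟩
    have hone : ∀ w ∈ W, w ≠ 1 → ((h * w * h⁻¹ : H) : G) = c0 * c0 := by
      intro w hw hw1
      have hw2 : ((h * w * h⁻¹ : H) : G) * ((h * w * h⁻¹ : H) : G) = 1 := by
        rw [← Subgroup.coe_mul, conj_mul, hw.1, mul_one, mul_inv_cancel, Subgroup.coe_one]
      rcases hRcases _ (hmem w hw) with e | e | e | e
      · exact absurd (conj_eq_one_iff.1 (Subtype.ext e)) hw1
      · exact e
      · rw [e] at hw2; exact absurd hw2 hc01
      · rw [e] at hw2
        rw [(show Commute c0 (c0 * c0) from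
          (Commute.refl _).mul_right (Commute.refl _)).symm.mul_mul_mul_comm, hc04, mul_one] at hw2
        exact absurd hw2 hc01
    have hpW : p' ∈ W := ⟨Subtype.ext hp2, Commute.refl _, hpq', 1, 0, by simp⟩
    have hqW : q' ∈ W := ⟨Subtype.ext hq2, hpq'.symm, Commute.refl _, 0, 1, by simp⟩
    have := Subtype.ext ((hone p' hpW fun h => hp1 (congrArg Subtype.val h)).trans
      (hone q' hqW fun h => hq1 (congrArg Subtype.val h)).symm)
    exact congrArg Subtype.val (mul_left_cancel (mul_right_cancel this))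
  refine ⟨?_, ⟨⟨c0 * c0, mul_mem hcA hcA⟩, Subtype.ext hc04,
    fun h => hc01 (congrArg Subtype.val h)⟩⟩
  -- a Sylow subgroup with one involution
  obtain ⟨S, hS⟩ : ∃ S : Sylow 2 A, ∀ a ∈ (S : Subgroup A), ∀ b ∈ (S : Subgroup A),
      a * a = 1 → b * b = 1 → a ≠ 1 → b ≠ 1 → a = b := by
    by_cases htmem : t ∈ A
    · have htp : IsPGroup 2 (zpowers (⟨t, htmem⟩ : A)) := by
        refine IsPGroup.of_card (n := 1) ?_
        rw [Nat.card_zpowers, Subgroup.orderOf_mk, ht, pow_one]
      obtain ⟨S, hS⟩ := htp.exists_le_sylow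
      have htS : (⟨t, htmem⟩ : A) ∈ (S : Subgroup A) := hS (mem_zpowers _)
      obtain ⟨z, -, hz1, hz2, hzc⟩ := H51.FourGroupRankOne.exists_central_step S.isPGroup' ⊥ ⊤
        (fun h => by
          have := mem_bot.1 (h (mem_top (⟨_, htS⟩ : (S : Subgroup A))))
          have h2 : t = 1 := congrArg (fun x : (S : Subgroup A) => ((x : A) : G)) this
          rw [h2, orderOf_one] at ht
          norm_num at ht)
      have hzc' : ∀ g : (S : Subgroup A), g * z = z * g := fun g =>
        mul_inv_eq_iff_eq_mul.1 (mul_inv_eq_one.1 (mem_bot.1 (hzc g)))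
      set zG : G := ((z : A) : G) with hzG
      have hzt : zG = t := by
        refine hinv zG (z : A).2 t htmem (congrArg (fun x : (S : Subgroup A) => ((x : A) : G)) (mem_bot.1 hz2))
          tt (fun h => hz1 (mem_bot.2 (Subtype.ext (Subtype.ext h)))) (fun h => ?_) ?_ ?_ (Commute.refl t)
        · rw [h, orderOf_one] at ht; norm_num at ht
        · exact (congrArg (fun x : (S : Subgroup A) => ((x : A) : G)) (hzc' ⟨_, htS⟩)).symm
        · exact congrArg (fun x : (S : Subgroup A) => ((x : A) : G)) (hzc' ⟨_, htS⟩)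
      refine ⟨S, fun a ha b hb ha2 hb2 ha1 hb1 => ?_⟩
      have hcomm : ∀ g ∈ (S : Subgroup A), Commute t (g : G) := fun g hg => by
        have := congrArg (fun x : (S : Subgroup A) => ((x : A) : G)) (hzc' ⟨g, hg⟩)
        simp only [Subgroup.coe_mul] at this
        rw [hzG] at hzt
        rw [hzt] at this
        exact this.symm
      have htz : ∀ g ∈ (S : Subgroup A), g * g = 1 → g ≠ 1 → (g : G) = t := fun g hg h2 h1 =>
        hinv g g.2 t htmem (congrArg Subtype.val h2) tt (fun h => h1 (Subtype.ext h))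
          (fun h => by rw [h, orderOf_one] at ht; norm_num at ht)
          (hcomm g hg).symm (hcomm g hg) (Commute.refl t)
      exact Subtype.ext ((htz a ha ha2 ha1).trans (htz b hb hb2 hb1).symm)
    -- the involution lies outside
    set K := A ⊔ zpowers t with hK
    set A' := A.subgroupOf K with hA'
    have htK : t ∈ K := mem_sup_right (mem_zpowers t)
    have hAK : A ≤ K := le_sup_left
    have hA'n : A'.Normal := by
      refine Subgroup.normal_subgroupOf_iff_le_normalizer hAK |>.2 (sup_le le_normalizer ?_)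
      exact zpowers_le.2 htA
    have hgen : ∀ g : K, g ∈ A' ∨ (⟨t, htK⟩ : K) * g ∈ A' := by
      rintro ⟨g, hg⟩
      have hg' : g ∈ (A : Set G) * (zpowers t : Set G) := by
        rw [← coe_mul_of_right_le_normalizer_left A (zpowers t) (zpowers_le.2 htA)]
        exact hg
      obtain ⟨a, ha, b, hb, rfl⟩ := hg'
      obtain ⟨i, rfl⟩ := mem_zpowers_iff.1 hb
      obtain ⟨j, rfl⟩ | ⟨j, rfl⟩ := Int.even_or_odd i
      · left
        show a * t ^ (j + j) ∈ A
        rw [zpow_add, ← (Commute.refl t).mul_zpow, tt, one_zpow, mul_one]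
        exact ha
      · right
        show t * (a * t ^ (2 * j + 1)) ∈ A
        rw [zpow_add, zpow_one, zpow_mul, zpow_two, tt, one_zpow, one_mul]
        have := (mem_normalizer_iff.1 htA a).1 ha
        rwa [inv_eq_of_mul_eq_one_right tt, mul_assoc] at this
    set t' : K := ⟨t, htK⟩ with ht'
    set c' : K := ⟨c0, hAK hcA⟩ with hc'
    have htc' : Commute t' c' := Subtype.ext htc.eq
    -- a 2-group containing both
    let Y : Subgroup K :=
      { carrier := {w | ∃ i j : ℕ, w = t' ^ i * c' ^ j}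
        one_mem' := ⟨0, 0, by simp⟩
        mul_mem' := by
          rintro a b ⟨i, j, rfl⟩ ⟨k, l, rfl⟩
          exact ⟨i + k, j + l, by rw [pow_add, pow_add, (htc'.pow_pow k j).mul_mul_mul_comm]⟩
        inv_mem' := by
          rintro a ⟨i, j, rfl⟩
          refine ⟨i, 3 * j, inv_eq_of_mul_eq_one_right ?_⟩
          rw [(htc'.symm.pow_pow j i).mul_mul_mul_comm, ← pow_add, ← pow_add, ← two_mul,
            show j + 3 * j = 4 * j by ring, pow_mul, pow_mul, sq]
          rw [show t' * t' = 1 from Subtype.ext tt, one_pow, one_mul,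
            show c' ^ 4 = 1 from Subtype.ext (by
              show c0 ^ 4 = 1
              rw [show (4 : ℕ) = 2 * 2 from rfl, pow_mul, sq, sq, hc04]), one_pow] }
    have hYp : IsPGroup 2 Y := by
      rintro ⟨w, i, j, rfl⟩
      refine ⟨2, Subtype.ext ?_⟩
      show (t' ^ i * c' ^ j) ^ 2 ^ 2 = 1
      rw [(htc'.pow_pow i j).mul_pow, ← pow_mul, ← pow_mul, mul_comm i, mul_comm j, pow_mul, pow_mul,
        show (2 : ℕ) ^ 2 = 2 * 2 from rfl, pow_mul t', pow_two t', show t' * t' = 1 from Subtype.ext tt,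
        one_pow, one_pow, one_mul, show c' ^ (2 * 2) = 1 from Subtype.ext (by
              show c0 ^ (2 * 2) = 1
              rw [pow_mul, sq, sq, hc04]), one_pow]
    obtain ⟨T, hT⟩ := hYp.exists_le_sylow
    have htT : t' ∈ (T : Subgroup K) := hT ⟨1, 0, by simp⟩
    have hcT : c' ∈ (T : Subgroup K) := hT ⟨0, 1, by simp⟩
    have hperf : _root_.commutator A' = ⊤ := by
      set e := (subgroupOfEquivOfLe hAK : A' ≃* A)
      apply Subgroup.map_injective (f := e.toMonoidHom) e.injective
      rw [Subgroup.map_top_of_surjective _ e.surjective, _root_.commutator_def, Subgroup.map_commutator,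
        Subgroup.map_top_of_surjective _ e.surjective, ← _root_.commutator_def, hA]
    let Cx : Ctx A' :=
      { T := T
        t := t'
        c := c'
        normal := hA'n
        perfect := hperf
        gen := hgen
        t_notMem := htmem
        t_mem := htT
        t_sq := Subtype.ext tt
        c_mem := ⟨hcA, hcT⟩
        t_c := htc'
        c_ne := fun h => hc01 (congrArg Subtype.val h)
        c_four := Subtype.ext hc04
        fix := by
          intro p hp htp
          set Y2 : Subgroup H := ((T : Subgroup K).map K.subtype).subgroupOf H with hY2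
          have hY2p : IsPGroup 2 Y2 := (T.isPGroup'.map _).comap_subtype
          have hRY : (R : Subgroup H) ≤ Y2 := by
            intro w hw
            rw [hY2, mem_subgroupOf]
            rcases hRcases w hw with e | e | e | e <;> rw [e]
            · exact one_mem _
            · exact ⟨c' * c', mul_mem hcT hcT, rfl⟩
            · exact ⟨c', hcT, rfl⟩
            · exact ⟨c' * (c' * c'), mul_mem hcT (mul_mem hcT hcT), rfl⟩
          have hpY : (⟨(p : G), hp.1, mem_centralizer_singleton_iff.2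
              (congrArg Subtype.val htp.symm.eq)⟩ : H) ∈ Y2 := mem_subgroupOf.2 ⟨p, hp.2, rfl⟩
          rw [R.is_maximal' hY2p hRY] at hpY
          rcases hRcases _ hpY with e | e | e | e
          exacts [Or.inl (Subtype.ext e), Or.inr (Or.inl (Subtype.ext e)),
            Or.inr (Or.inr (Or.inl (Subtype.ext e))), Or.inr (Or.inr (Or.inr (Subtype.ext e)))]
        one_inv := fun p hp q hq hp2 hq2 hp1 hq1 hpq htp htq =>
          Subtype.ext (hinv p hp q hq (congrArg Subtype.val hp2) (congrArg Subtype.val hq2)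
            (fun h => hp1 (Subtype.ext h)) (fun h => hq1 (Subtype.ext h)) (congrArg Subtype.val hpq.eq)
            (congrArg Subtype.val htp.eq) (congrArg Subtype.val htq.eq)) }
    have hu := Cx.unique
    set e := (subgroupOfEquivOfLe hAK : A' ≃* A)
    refine ⟨Cx.sylowA.mapSurjective (f := e.toMonoidHom) e.surjective, ?_⟩
    intro a ha b hb ha2 hb2 ha1 hb1
    obtain ⟨a', ha', rfl⟩ := ha
    obtain ⟨b', hb', rfl⟩ := hb
    have key : ∀ w : A', w ∈ (Cx.sylowA : Subgroup A') → e w * e w = 1 → e w ≠ 1 → (w : K) = Cx.d := by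
      intro w hw h2 h1
      rw [← map_mul, map_eq_one_iff _ e.injective] at h2
      exact (hu _ (Cx.mem_sylowA.1 hw) (congrArg Subtype.val h2)).resolve_left fun h =>
        h1 (by rw [show w = 1 from Subtype.ext h, map_one])
    exact congrArg e (Subtype.ext ((key a' ha' ha2 ha1).trans (key b' hb' hb2 hb1).symm))
  intro E hEc hE2
  have hEp : IsPGroup 2 E := fun w => ⟨1, Subtype.ext (by simpa using hE2 w w.2)⟩
  obtain ⟨S', hS'⟩ := hEp.exists_le_sylow
  obtain ⟨g, hg⟩ := MulAction.exists_smul_eq A S' S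
  by_contra hlt
  push Not at hlt
  obtain ⟨a, b, ha1, hb1, hab⟩ : ∃ a b : E, a ≠ 1 ∧ b ≠ 1 ∧ a ≠ b := by
    haveI : Fintype E := Fintype.ofFinite _
    rw [Nat.card_eq_fintype_card, Fintype.two_lt_card_iff] at hlt
    obtain ⟨a, b, c, hab, hac, hbc⟩ := hlt
    by_cases ha : a = 1
    · exact ⟨b, c, fun h => hab (ha.trans h.symm), fun h => hac (ha.trans h.symm), hbc⟩
    · by_cases hb : b = 1
      · exact ⟨a, c, ha, fun h => hbc (hb.trans h.symm), hac⟩
      · exact ⟨a, b, ha, hb, hab⟩
  have hmem : ∀ w : E, g * (w : A) * g⁻¹ ∈ (S : Subgroup A) := fun w => by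
    rw [← hg, Sylow.coe_subgroup_smul]
    exact ⟨w, hS' w.2, rfl⟩
  have h2 : ∀ w : E, g * (w : A) * g⁻¹ * (g * (w : A) * g⁻¹) = 1 := fun w => by
    rw [conj_mul, ← sq, hE2 w w.2, mul_one, mul_inv_cancel]
  have hne : ∀ w : E, w ≠ 1 → g * (w : A) * g⁻¹ ≠ 1 := fun w hw h =>
    hw (Subtype.ext (conj_eq_one_iff.1 h))
  exact hab (Subtype.ext (mul_left_cancel (mul_right_cancel
    (hS _ (hmem a) _ (hmem b) (h2 a) (h2 b) (hne a ha1) (hne b hb1)))))

end Cfsg.Agent.H62.CyclicFix
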